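import Groth.Agent.TautSecant.Sections
import Groth.Agent.GrassQ.Hom
import Groth.Agent.W7Exist.Good
import Groth.Agent.DCDesc.Basic
import Groth.Agent.ZeroSch.Basic
import Groth.Agent.TMul.Power
import Groth.Agent.CurveRR.Multi
import Groth.Prelude.Def_TautSec
import Mathlib

/-!
Points of projective bundles over a field, by the kernels of the quotients they classify.
-/

set_option autoImplicit false
set_option linter.style.haveILetI false
set_option linter.unusedSectionVars false
set_option backward.isDefEq.respectTransparency false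
set_option backward.isDefEq.respectTransparency.types false

universe u

open CategoryTheory CategoryTheory.Limits AlgebraicGeometry TopologicalSpace Opposite

noncomputable section

namespace Groth.Agent.TautSecant

section Lin

variable {R G A N : Type*} [CommRing R] [AddCommGroup G] [AddCommGroup A] [AddCommGroup N] [Module R A] [Module R N]

/-- A semilinear map factors linearly through a semilinear surjection with smaller kernel. -/
theorem exists_lin_of_ker_le (sm : R → G → G) (r : G →+ A) (τ : G →+ N) (hr : Function.Surjective r)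
    (hk : ∀ v, r v = 0 → τ v = 0) (h1 : ∀ c v, r (sm c v) = c • r v) (h2 : ∀ c v, τ (sm c v) = c • τ v) :
    ∃ ψ : A →ₗ[R] N, ∀ v, ψ (r v) = τ v := by
  have key : ∀ v w, r v = r w → τ v = τ w := fun v w h => sub_eq_zero.1 (by
    rw [← map_sub]; exact hk _ (by rw [map_sub, h, sub_self]))
  choose σ hσ using hr
  refine ⟨{ toFun := fun a => τ (σ a), map_add' := fun a b => ?_, map_smul' := fun c a => ?_ }, fun v => key _ _ (hσ _)⟩
  · rw [← map_add]
    exact key _ _ (by rw [map_add, hσ, hσ, hσ])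
  · rw [RingHom.id_apply, ← h2]
    exact key _ _ (by rw [h1, hσ, hσ])

end Lin

variable {R : CommRingCat.{u}}

/-- Maps out of quasi-coherent modules on an affine scheme agreeing on global sections agree. -/
theorem hom_ext_top {M N : (Spec R).Modules} (hM : Coh.IsQCoh M) {a b : M ⟶ N}
    (h : ∀ x : Γ(M, ⊤), a.app ⊤ x = b.app ⊤ x) : a = b :=
  sub_eq_zero.1 <| DCDesc.hom_eq_zero_of_cover hM (a - b) fun _ =>
    ⟨⊤, isAffineOpen_top _, trivial, fun s => show a.app ⊤ s - b.app ⊤ s = 0 from sub_eq_zero.2 (h s)⟩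

/-- An invertible module on the spectrum of a field has a basis section. -/
theorem exists_basis_section {k : Type u} [Field k] {N : (Spec (CommRingCat.of k)).Modules}
    (hN : FlatMod.IsFinLocFreeOfRank 1 N) :
    ∃ e : Γ(N, ⊤), Function.Bijective fun r : Γ(Spec (CommRingCat.of k), ⊤) => r • e := by
  obtain ⟨V, e, hx, he⟩ := TMul.exists_isGen (ZeroSch.isInvertible_of_rankOne hN) (IsLocalRing.closedPoint k)
  have hV : V = ⊤ := eq_top_iff.2 fun y _ => Subsingleton.elim (IsLocalRing.closedPoint k) y ▸ hx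
  subst hV
  exact ⟨e, by simpa only [Groth.Agent.QC.res_self] using he ⊤ le_rfl⟩

/-- Nonzero sections of an invertible module on the spectrum of a field generate. -/
theorem exists_smul_of_ne_zero {k : Type u} [Field k] {N : (Spec (CommRingCat.of k)).Modules}
    (hN : FlatMod.IsFinLocFreeOfRank 1 N) {t : Γ(N, ⊤)} (ht : t ≠ 0) (s : Γ(N, ⊤)) :
    ∃ r : Γ(Spec (CommRingCat.of k), ⊤), r • t = s := by
  obtain ⟨e, he⟩ := exists_basis_section hN
  obtain ⟨a, rfl⟩ := he.2 t
  obtain ⟨b, rfl⟩ := he.2 s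
  let φ := (Scheme.ΓSpecIso (CommRingCat.of k)).commRingCatIsoToRingEquiv
  have ha : φ a ≠ 0 := fun h => ht (by rw [(map_eq_zero_iff φ φ.injective).1 h]; exact zero_smul _ e)
  refine ⟨φ.symm (φ b / φ a), ?_⟩
  show φ.symm (φ b / φ a) • a • e = b • e
  rw [smul_smul]
  congr 1
  exact φ.injective (by rw [map_mul, RingEquiv.apply_symm_apply, div_mul_cancel₀ _ ha])

theorem ne_zero_exists {k : Type u} [Field k] {N : (Spec (CommRingCat.of k)).Modules}
    (hN : FlatMod.IsFinLocFreeOfRank 1 N) : ∃ t : Γ(N, ⊤), t ≠ 0 := by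
  obtain ⟨e, he⟩ := exists_basis_section hN
  haveI : Nontrivial Γ(Spec (CommRingCat.of k), ⊤) :=
    (Scheme.ΓSpecIso (CommRingCat.of k)).commRingCatIsoToRingEquiv.toEquiv.nontrivial
  exact ⟨e, fun h => one_ne_zero (he.1 ((one_smul _ e).trans (h.trans (zero_smul _ e).symm)))⟩

theorem isQCoh_rankOne {X : Scheme.{u}} {L : X.Modules} (hL : FlatMod.IsFinLocFreeOfRank 1 L) : Coh.IsQCoh L :=
  TMul.isQCoh_of_isInvertible (ZeroSch.isInvertible_of_rankOne hL)

variable {P B : Scheme.{u}} {π : P ⟶ B} {E : B.Modules} {O : P.Modules} {q : (Scheme.Modules.pullback π).obj E ⟶ O}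

open PBundle (sec' bc)

/-- The value of a classified quotient on a global section. -/
theorem sec_eq {T : Scheme.{u}} (h : T ⟶ P) {g : T ⟶ B} (hg : h ≫ π = g) {L : T.Modules}
    (e : (Scheme.Modules.pullback h).obj O ⟶ L) (t : Γ(E, ⊤)) :
    sec' g (bc q h hg e) ⊤ t = e.app ⊤ (pb h O (sec' π q ⊤ t)) := by
  subst hg
  exact PBundle.sec'_bc q h e ⊤ t

/-- The quotient at a point. -/
abbrev sig (q : (Scheme.Modules.pullback π).obj E ⟶ O) (y : Spec R ⟶ P) {g : Spec R ⟶ B} (hy : y ≫ π = g) :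
    (Scheme.Modules.pullback g).obj E ⟶ (Scheme.Modules.pullback y).obj O := bc q y hy (𝟙 _)

theorem sig_app (y : Spec R ⟶ P) {g : Spec R ⟶ B} (hy : y ≫ π = g) (t : Γ(E, ⊤)) :
    (sig q y hy).app ⊤ (pb g E t) = pb y O (sec' π q ⊤ t) :=
  sec_eq y hy (𝟙 _) t

theorem sig_surjective (hP : KRR.IsProjBundle π E O q) (hE : Coh.IsQCoh E) (y : Spec R ⟶ P) {g : Spec R ⟶ B}
    (hy : y ≫ π = g) : Function.Surjective ((sig q y hy).app ⊤) := by
  haveI := hP.epi
  haveI := (Scheme.Modules.pullbackPushforwardAdjunction y).isLeftAdjoint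
  haveI : Epi (sig q y hy) := by
    unfold sig bc
    infer_instance
  exact QC.app_surjective_of_epi (isAffineOpen_top _) (QC.isQCoh_pullback g hE)
    (QC.isQCoh_pullback y (isQCoh_rankOne hP.invertible)) _

variable {k : Type u} [Field k]

/-- A point of a projective bundle is determined by the kernel of its quotient. -/
theorem point_ext (hP : KRR.IsProjBundle π E O q) (hE : Coh.IsQCoh E) (y y' : Spec (CommRingCat.of k) ⟶ P)
    {g : Spec (CommRingCat.of k) ⟶ B} (hy : y ≫ π = g) (hy' : y' ≫ π = g)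
    (h : ∀ z, (sig q y hy).app ⊤ z = 0 ↔ (sig q y' hy').app ⊤ z = 0) : y = y' := by
  have hs := sig_surjective hP hE y hy
  have hs' := sig_surjective hP hE y' hy'
  let τ := ((sig q y hy).app ⊤).hom
  let τ' := ((sig q y' hy').app ⊤).hom
  obtain ⟨ψ, hψ⟩ := exists_lin_of_ker_le (R := Γ(Spec (CommRingCat.of k), ⊤)) (fun c z => c • z) τ τ' hs
    (fun z hz => (h z).1 hz) (fun c z => Scheme.Modules.Hom.app_smul _ c z) (fun c z => Scheme.Modules.Hom.app_smul _ c z)
  obtain ⟨ψ', hψ'⟩ := exists_lin_of_ker_le (R := Γ(Spec (CommRingCat.of k), ⊤)) (fun c z => c • z) τ' τ hs'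
    (fun z hz => (h z).2 hz) (fun c z => Scheme.Modules.Hom.app_smul _ c z) (fun c z => Scheme.Modules.Hom.app_smul _ c z)
  have hO : FlatMod.IsFinLocFreeOfRank 1 ((Scheme.Modules.pullback y').obj O) :=
    CurveRR.Multi.isFinLocFreeOfRank_pullback y' hP.invertible
  have hq := QC.isQCoh_pullback y (isQCoh_rankOne hP.invertible)
  have hq' := isQCoh_rankOne hO
  obtain ⟨φ, hφ⟩ := GrassQ.exists_hom_top hq ψ
  obtain ⟨φ', hφ'⟩ := GrassQ.exists_hom_top hq' ψ'
  let e : (Scheme.Modules.pullback y).obj O ≅ (Scheme.Modules.pullback y').obj O :=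
    { hom := φ
      inv := φ'
      hom_inv_id := hom_ext_top hq fun x => by
        obtain ⟨z, rfl⟩ := hs x
        show φ'.app ⊤ (φ.app ⊤ (τ z)) = τ z
        rw [hφ, hψ, hφ', hψ']
      inv_hom_id := hom_ext_top hq' fun x => by
        obtain ⟨z, rfl⟩ := hs' x
        show φ.app ⊤ (φ'.app ⊤ (τ' z)) = τ' z
        rw [hφ', hψ', hφ, hψ] }
  haveI : Epi (sig q y' hy') := by
    haveI := hP.epi
    haveI := (Scheme.Modules.pullbackPushforwardAdjunction y').isLeftAdjoint
    unfold sig bc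
    infer_instance
  refine PBundle.hom_unique hP hO (sig q y' hy') hy hy' e (Iso.refl _) ?_ rfl
  have hc : bc q y hy e.hom = sig q y hy ≫ e.hom := by
    simp only [sig, bc, Category.assoc, Category.id_comp]
  rw [hc]
  exact hom_ext_top (QC.isQCoh_pullback g hE) fun z => (hφ _).trans (hψ z)

/-- A point of a projective bundle with a given quotient. -/
theorem point_exists (hP : KRR.IsProjBundle π E O q) (hE : Coh.IsQCoh E) (g : Spec (CommRingCat.of k) ⟶ B)
    {N : (Spec (CommRingCat.of k)).Modules} (hN : FlatMod.IsFinLocFreeOfRank 1 N)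
    (ψ : Γ((Scheme.Modules.pullback g).obj E, ⊤) →ₗ[Γ(Spec (CommRingCat.of k), ⊤)] Γ(N, ⊤))
    (hs : Function.Surjective ψ) :
    ∃ (y : Spec (CommRingCat.of k) ⟶ P) (hy : y ≫ π = g),
      ∀ z, (sig q y hy).app ⊤ z = 0 ↔ ψ z = 0 := by
  obtain ⟨φ, hφ⟩ := GrassQ.exists_hom_top (QC.isQCoh_pullback g hE) ψ
  haveI : Epi φ := W7Exist.epi_of_surjective (κ := PUnit.{u + 1}) (fun _ => ⊤) (fun _ => isAffineOpen_top _)
    (fun _ => ⟨PUnit.unit, trivial⟩) (QC.isQCoh_pullback g hE) (isQCoh_rankOne hN) φ fun _ t => by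
      obtain ⟨z, hz⟩ := hs t
      exact ⟨z, (hφ z).trans hz⟩
  obtain ⟨y, hy, e, he⟩ := PBundle.exists_hom hP g hN φ
  refine ⟨y, hy, fun z => ?_⟩
  have hc : sig q y hy ≫ e.hom = φ := by
    rw [← he]
    simp only [sig, bc, Category.assoc, Category.id_comp]
  have h1 : e.hom.app ⊤ ((sig q y hy).app ⊤ z) = ψ z := (congr(($hc).app ⊤ z)).trans (hφ z)
  rw [← h1]
  exact ⟨fun h => by rw [h]; exact map_zero _, fun h => app_iso_injective e (h.trans (map_zero _).symm)⟩

/-- The kernel at a point of the morphism classifying a quotient. -/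
theorem ker_map {T : Scheme.{u}} {g : T ⟶ B} {L : T.Modules} {s : (Scheme.Modules.pullback g).obj E ⟶ L}
    {h : T ⟶ P} (hh : TautSh.IsMapOfQuot π E O q g L s h) (y : Spec R ⟶ T) (v : Γ(E, ⊤)) :
    pb (y ≫ h) O (sec' π q ⊤ v) = 0 ↔ pb y L (sec' g s ⊤ v) = 0 := by
  obtain ⟨hg, e, he⟩ := hh
  have h1 : sec' g s ⊤ v = e.hom.app ⊤ (pb h O (sec' π q ⊤ v)) := by
    rw [← sec_eq h hg e.hom v]
    exact congrArg (fun w => sec' g w ⊤ v) he.symm
  rw [ker_pb_comp, h1, ← pb_nat]
  exact ⟨fun h2 => by rw [h2]; exact map_zero _,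
    fun h2 => app_iso_injective ((Scheme.Modules.pullback y).mapIso e) (h2.trans (map_zero _).symm)⟩

end Groth.Agent.TautSecant

end
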