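import Groth.Agent.TautSecant.Split
import Groth.Agent.TopDim.Basic
import Mathlib

/-!
Rational points of proper integral schemes over algebraically closed fields.
-/

set_option autoImplicit false
set_option linter.style.haveILetI false
set_option linter.unusedSectionVars false
set_option backward.isDefEq.respectTransparency false
set_option backward.isDefEq.respectTransparency.types false

universe u

open CategoryTheory CategoryTheory.Limits AlgebraicGeometry TopologicalSpace Opposite

noncomputable section

namespace Groth.Agent.TautSecant

variable {k : Type u} [Field k] [IsAlgClosed k] {X : Scheme.{u}} (f : X ⟶ Spec (CommRingCat.of k))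
  [IsProper f] [IsIntegral X]

/-- Either there are infinitely many rational points, or there is only one point. -/
theorem hasManyPoints_or_subsingleton : HasManyPoints f ∨ Subsingleton X := by
  by_cases h : HasManyPoints f
  · exact Or.inl h
  right
  obtain ⟨S, hS, hno⟩ : ∃ S : Set X, S.Finite ∧ ∀ x : Spec (CommRingCat.of k) ⟶ X, x ≫ f = 𝟙 _ →
      x (IsLocalRing.closedPoint k) ∈ S := by
    by_contra hc
    refine h fun S hS => ?_
    by_contra hx
    exact hc ⟨S, hS, fun x hxf => by
      by_contra hne
      exact hx ⟨x, hxf, hne⟩⟩
  haveI : JacobsonSpace X := LocallyOfFiniteType.jacobsonSpace f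
  have hcp : closedPoints X ⊆ S := fun x hx => by
    have := hno (pointOfClosedPoint f x hx) (pointOfClosedPoint_comp f x hx)
    rwa [pointOfClosedPoint_apply] at this
  have hcl : IsClosed (closedPoints X) := by
    rw [← Set.biUnion_of_singleton (closedPoints X)]
    exact (hS.subset hcp).isClosed_biUnion fun x hx => hx
  have hu : closedPoints X = Set.univ := hcl.closure_eq.symm.trans closure_closedPoints
  have hg : IsClosed ({genericPoint X} : Set X) := by
    have h1 : genericPoint X ∈ closedPoints X := by rw [hu]; trivial
    exact h1
  have : ∀ x : X, x = genericPoint X := fun x => by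
    have h1 : x ∈ closure ({genericPoint X} : Set X) := by
      rw [genericPoint_closure]; trivial
    rwa [hg.closure_eq] at h1
  exact ⟨fun x y => (this x).trans (this y).symm⟩

theorem hasManyPoints_of_dim_one (hdim : topologicalKrullDim X = 1) : HasManyPoints f := by
  refine (hasManyPoints_or_subsingleton f).resolve_right fun h => ?_
  haveI := h
  haveI : DiscreteTopology X := Subsingleton.discreteTopology
  exact absurd (hdim ▸ topologicalKrullDim_zero_of_discreteTopology X) (not_le.2 zero_lt_one)

theorem hasManyPoints_of_deg {d : ℕ} (hd : 2 ≤ d) (J : X.IdealSheafData)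
    (hJ : Mor2.IsFinLocFreeOfDeg d (J.subschemeι ≫ f)) : HasManyPoints f := by
  refine (hasManyPoints_or_subsingleton f).resolve_right fun h => ?_
  haveI := h
  let p := J.subschemeι ≫ f
  haveI : IsFinite p := hJ.1.1
  haveI : Flat p := hJ.1.2.1
  haveI : LocallyOfFinitePresentation p := hJ.1.2.2
  have hne : Nonempty J.subscheme := by
    haveI : Surjective p := (Scheme.Hom.one_le_finrank_iff_surjective p).1 fun y => by
      rw [hJ.2 y, Pi.one_apply]
      exact le_trans one_le_two (by exact_mod_cast hd)
    exact ⟨(p.surjective (IsLocalRing.closedPoint k)).choose⟩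
  haveI : Surjective J.subschemeι := ⟨fun x => ⟨hne.some, Subsingleton.elim _ _⟩⟩
  haveI : IsIso J.subschemeι := isIso_of_isClosedImmersion_of_surjective _
  let x : X := genericPoint X
  have hx : IsClosed ({x} : Set X) := by
    convert isClosed_univ
    exact Set.eq_univ_of_forall fun y => Subsingleton.elim y x
  let s := pointOfClosedPoint f x hx
  haveI : IsClosedImmersion s := isClosedImmersion_of_comp_eq_id _ _ (pointOfClosedPoint_comp f x hx)
  haveI : Surjective s := ⟨fun y => ⟨IsLocalRing.closedPoint k, Subsingleton.elim _ _⟩⟩
  haveI : IsIso s := isIso_of_isClosedImmersion_of_surjective _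
  haveI : IsIso (s ≫ f) := by rw [pointOfClosedPoint_comp]; infer_instance
  haveI : IsIso f := IsIso.of_isIso_comp_left s f
  haveI : IsIso p := inferInstanceAs (IsIso (J.subschemeι ≫ f))
  have h1 := hJ.2 (IsLocalRing.closedPoint k)
  rw [Scheme.Hom.finrank_eq_one_of_isIso] at h1
  simp at h1
  omega

end Groth.Agent.TautSecant

end
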