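import Groth.Agent.TautSecant.Fibre
import Groth.Agent.TautSecant.Bundle
import Groth.Agent.TautSecant.Points
import Mathlib

/-!
The morphism to projective space defined by the tautological bundle, at rational points.
-/

set_option autoImplicit false
set_option linter.style.haveILetI false
set_option linter.unusedSectionVars false
set_option backward.isDefEq.respectTransparency false
set_option backward.isDefEq.respectTransparency.types false

universe u

open CategoryTheory CategoryTheory.Limits AlgebraicGeometry TopologicalSpace Opposite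
open Groth.Agent.HilbRep
open Groth.Agent.PBundle (sec' bc)

noncomputable section

namespace Groth.Agent.TautSecant

variable {k : Type u} [Field k] {X : Scheme.{u}} (f : X ⟶ Spec (CommRingCat.of k))


/-- The counit evaluates sections. -/
theorem linSys_sec (L : X.Modules) (v : Γ(L, ⊤)) : sec' f (TautSh.linSysQuot f L) ⊤ v = v :=
  congr(($((Scheme.Modules.pullbackPushforwardAdjunction f).right_triangle_components L)).app ⊤ v)

/-- The evaluation map on global sections. -/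
theorem pushEval_top (H : Over (Spec (CommRingCat.of k))) (I : (PicF.XT f H).IdealSheafData) (L : X.Modules)
    (v : Γ(L, ⊤)) : (TautSh.pushEval f H I L).app ⊤ v = pb (TautSh.famToX f H I) L v := by
  set M := (Scheme.Modules.pullback (TautSh.famToX f H I)).obj L
  change ((Scheme.Modules.pushforwardCongr (TautSh.famToX_comp f H I)).hom.app M).app ⊤
    (pb (TautSh.famToX f H I) L v) = _
  rw [Scheme.Modules.pushforwardCongr_hom_app_app]
  exact congr($(M.presheaf.map_id (op ⊤)) (pb (TautSh.famToX f H I) L v))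

/-- The evaluation map on global sections, adjoint form. -/
theorem evalMap_sec (H : Over (Spec (CommRingCat.of k))) (I : (PicF.XT f H).IdealSheafData) (L : X.Modules)
    (v : Γ(L, ⊤)) :
    sec' H.hom (TautSh.evalMap f H I L) ⊤ v = pb (TautSh.famToX f H I) L v := by
  rw [← pushEval_top f H I L v]
  have h1 : ((Scheme.Modules.pullbackPushforwardAdjunction H.hom).homEquiv _ _) (TautSh.evalMap f H I L) =
      TautSh.pushEval f H I L := Equiv.apply_symm_apply _ _
  rw [Adjunction.homEquiv_unit] at h1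
  exact congr(($h1).app ⊤ v)

/-- A composite quotient on global sections. -/
theorem sec_comp_map {T U B : Scheme.{u}} (g : T ⟶ U) (b : U ⟶ B) {E : B.Modules} {F : U.Modules} {O : T.Modules}
    (ψ : (Scheme.Modules.pullback b).obj E ⟶ F) (q : (Scheme.Modules.pullback g).obj F ⟶ O) (v : Γ(E, ⊤)) :
    sec' (g ≫ b) ((Scheme.Modules.pullbackComp g b).inv.app E ≫ (Scheme.Modules.pullback g).map ψ ≫ q) ⊤ v =
      sec' g q ⊤ (sec' b ψ ⊤ v) :=
  (PBundle.sec'_iter (b := b) ((Scheme.Modules.pullback g).map ψ ≫ q) ⊤ v).trans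
    (PBundle.sec'_map g ψ q (b ⁻¹ᵁ ⊤) (OmegaSh.pullSect b E ⊤ v))

/-- The secant quotient on global sections. -/
theorem secant_sec (H : Over (Spec (CommRingCat.of k))) (I : (PicF.XT f H).IdealSheafData) (L : X.Modules)
    {PE : Scheme.{u}} (πE : PE ⟶ H.left) (OE : PE.Modules)
    (qE : (Scheme.Modules.pullback πE).obj (TautSh.taut f H I L) ⟶ OE) (v : Γ(L, ⊤)) :
    sec' (πE ≫ H.hom) (TautSh.secantQuot f H I L πE OE qE) ⊤ v =
      sec' πE qE ⊤ (pb (TautSh.famToX f H I) L v) := by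
  let E := (Scheme.Modules.pushforward f).obj L
  refine (sec_comp_map (E := E) πE H.hom (TautSh.evalMap f H I L) qE v).trans ?_
  exact congrArg (fun t => sec' πE qE ⊤ t) (evalMap_sec f H I L v)

variable {P : Scheme.{u}} (π : P ⟶ Spec (CommRingCat.of k)) (L : X.Modules) (O1 : P.Modules)
  (qP : (Scheme.Modules.pullback π).obj ((Scheme.Modules.pushforward f).obj L) ⟶ O1)

/-- The quotient at a point, on global sections. -/
def Phi (y : Spec (CommRingCat.of k) ⟶ P) : Γ(L, ⊤) →+ Γ((Scheme.Modules.pullback y).obj O1, ⊤) :=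
  (pb y O1).comp ((qP.app ⊤).hom.comp (pb π ((Scheme.Modules.pushforward f).obj L)))

theorem Phi_apply (y : Spec (CommRingCat.of k) ⟶ P) (v : Γ(L, ⊤)) :
    Phi f π L O1 qP y v = pb y O1 (sec' π qP ⊤ v) := rfl

theorem appTop_appTop {Y T : Scheme.{u}} (y : Spec (CommRingCat.of k) ⟶ T) (g : T ⟶ Y) {g' : Spec (CommRingCat.of k) ⟶ Y}
    (h : y ≫ g = g') (r : Γ(Y, ⊤)) : y.appTop (g.appTop r) = g'.appTop r := by
  subst h
  rw [Scheme.Hom.comp_appTop]
  rfl

theorem Phi_smul (y : Spec (CommRingCat.of k) ⟶ P) (hy : y ≫ π = 𝟙 _) (r : Γ(Spec (CommRingCat.of k), ⊤)) (v : Γ(L, ⊤)) :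
    Phi f π L O1 qP y (f.appTop r • v) = r • Phi f π L O1 qP y v := by
  change pb y O1 (qP.app ⊤ (pb π ((Scheme.Modules.pushforward f).obj L)
    (r • (show Γ((Scheme.Modules.pushforward f).obj L, ⊤) from v)))) = _
  rw [pb_smul, Scheme.Modules.Hom.app_smul, pb_smul, appTop_appTop y π hy r]
  rw [Scheme.Hom.id_appTop]
  rfl

variable {f π L O1 qP}

theorem Phi_eq_sig {y : Spec (CommRingCat.of k) ⟶ P} (hy : y ≫ π = 𝟙 _) (v : Γ(L, ⊤)) :
    (sig qP y hy).app ⊤ (pb (𝟙 _) ((Scheme.Modules.pushforward f).obj L) v) = Phi f π L O1 qP y v := by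
  rw [Phi_apply]
  let E := (Scheme.Modules.pushforward f).obj L
  let v' : Γ(E, ⊤) := v
  exact sig_app (E := E) (q := qP) y hy v'

variable [IsProper f]

theorem isQCoh_push (hL : FlatMod.IsFinLocFreeOfRank 1 L) : Coh.IsQCoh ((Scheme.Modules.pushforward f).obj L) :=
  QC.isQCoh_pushforward (hM := isQCoh_rankOne hL) f

theorem exists_of_sig {y : Spec (CommRingCat.of k) ⟶ P} (hy : y ≫ π = 𝟙 _)
    (t : Γ((Scheme.Modules.pullback y).obj O1, ⊤)) (v : Γ(L, ⊤))
    (hv : (sig qP y hy).app ⊤ (pb (𝟙 _) ((Scheme.Modules.pushforward f).obj L) v) = t) :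
    ∃ w : Γ(L, ⊤), Phi f π L O1 qP y w = t := by
  refine Exists.intro v ?_
  rw [← Phi_eq_sig hy v]
  exact hv

theorem Phi_surjective (hL : FlatMod.IsFinLocFreeOfRank 1 L)
    (hP : KRR.IsProjBundle π ((Scheme.Modules.pushforward f).obj L) O1 qP)
    {y : Spec (CommRingCat.of k) ⟶ P} (hy : y ≫ π = 𝟙 _) : Function.Surjective (Phi f π L O1 qP y) := by
  intro t
  let E := (Scheme.Modules.pushforward f).obj L
  have hs : Function.Surjective ((sig qP y hy).app ⊤) :=
    sig_surjective (E := E) (q := qP) hP (isQCoh_push hL) y hy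
  obtain ⟨z, hz⟩ := hs t
  obtain ⟨v, hv⟩ := (pb_id_bijective E).2 z
  exact exists_of_sig hy t v (by rw [hv]; exact hz)

theorem Phi_ker_ne_top (hL : FlatMod.IsFinLocFreeOfRank 1 L)
    (hP : KRR.IsProjBundle π ((Scheme.Modules.pushforward f).obj L) O1 qP)
    {y : Spec (CommRingCat.of k) ⟶ P} (hy : y ≫ π = 𝟙 _) : (Phi f π L O1 qP y).ker ≠ ⊤ := by
  intro h
  obtain ⟨t, ht⟩ := ne_zero_exists (CurveRR.Multi.isFinLocFreeOfRank_pullback y hP.invertible)
  obtain ⟨v, rfl⟩ := Phi_surjective hL hP hy t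
  exact ht (AddMonoidHom.mem_ker.1 (h ▸ AddSubgroup.mem_top v))

/-- Points of the projective space with the same kernel are equal. -/
theorem eq_of_Phi_ker (hL : FlatMod.IsFinLocFreeOfRank 1 L)
    (hP : KRR.IsProjBundle π ((Scheme.Modules.pushforward f).obj L) O1 qP)
    {y y' : Spec (CommRingCat.of k) ⟶ P} (hy : y ≫ π = 𝟙 _) (hy' : y' ≫ π = 𝟙 _)
    (h : ∀ v, Phi f π L O1 qP y v = 0 ↔ Phi f π L O1 qP y' v = 0) : y = y' :=
  point_ext hP (isQCoh_push hL) y y' hy hy' fun z => by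
    obtain ⟨v, rfl⟩ := (pb_id_bijective _).2 z
    rw [Phi_eq_sig, Phi_eq_sig]
    exact h v

variable {d : ℕ} {H : Over (Spec (CommRingCat.of k))} {Z : HilbD.Obj f d H}

theorem isQCoh_taut (hL : FlatMod.IsFinLocFreeOfRank 1 L) : Coh.IsQCoh (TautSh.taut f H Z.1 L) := by
  haveI : IsFinite (TautSh.famToH f H Z.1) := Z.2.1.1
  exact QC.isQCoh_pushforward (hM := Groth.Agent.QC.isQCoh_pullback (TautSh.famToX f H Z.1) (isQCoh_rankOne hL))
    (TautSh.famToH f H Z.1)

theorem rr_smul (c : Spec (CommRingCat.of k) ⟶ H.left) (hc : c ≫ H.hom = 𝟙 _) (r : Γ(Spec (CommRingCat.of k), ⊤)) (v : Γ(L, ⊤)) :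
    rr f d H Z L c (f.appTop r • v) = r • rr f d H Z L c v := by
  have h1 : ev f d H Z L (f.appTop r • v) = H.hom.appTop r • ev f d H Z L v := by
    refine (pb_smul (TautSh.famToX f H Z.1) L _ v).trans ?_
    have h2 := congr(($(TautSh.famToX_comp f H Z.1)).appTop r)
    simp only [Scheme.Hom.comp_appTop] at h2
    exact congrArg (· • pb (TautSh.famToX f H Z.1) L v) h2
  rw [rr_apply, h1, pb_smul, appTop_appTop c H.hom hc r, Scheme.Hom.id_appTop]
  rfl

variable {PE : Scheme.{u}} {πE : PE ⟶ H.left} {OE : PE.Modules}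
  {qE : (Scheme.Modules.pullback πE).obj (TautSh.taut f H Z.1 L) ⟶ OE} {h : PE ⟶ P}

/-- The kernel at the image of a point of the tautological bundle. -/
theorem Phi_secant
    (hh : TautSh.IsMapOfQuot π ((Scheme.Modules.pushforward f).obj L) O1 qP (πE ≫ H.hom) OE
      (TautSh.secantQuot f H Z.1 L πE OE qE) h)
    (a : Spec (CommRingCat.of k) ⟶ PE) {c : Spec (CommRingCat.of k) ⟶ H.left} (hc : a ≫ πE = c) (v : Γ(L, ⊤)) :
    Phi f π L O1 qP (a ≫ h) v = 0 ↔ (sig qE a hc).app ⊤ (rr f d H Z L c v) = 0 := by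
  rw [Phi_apply, rr_apply, sig_app a hc]
  have h1 : sec' (πE ≫ H.hom) (TautSh.secantQuot f H Z.1 L πE OE qE) ⊤ v = sec' πE qE ⊤ (ev f d H Z L v) :=
    secant_sec f H Z.1 L πE OE qE v
  rw [← h1]
  exact ker_map hh a v

theorem base_secant
    (hh : TautSh.IsMapOfQuot π ((Scheme.Modules.pushforward f).obj L) O1 qP (πE ≫ H.hom) OE
      (TautSh.secantQuot f H Z.1 L πE OE qE) h)
    (a : Spec (CommRingCat.of k) ⟶ PE) (ha : a ≫ πE ≫ H.hom = 𝟙 _) : (a ≫ h) ≫ π = 𝟙 _ := by
  obtain ⟨hg, -⟩ := hh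
  rw [Category.assoc, hg, ha]

/-- A point of a tautological bundle over a given point with prescribed kernel in projective space. -/
theorem exists_secant_point (hL : FlatMod.IsFinLocFreeOfRank 1 L)
    (hP : KRR.IsProjBundle π ((Scheme.Modules.pushforward f).obj L) O1 qP)
    (hPE : KRR.IsProjBundle πE (TautSh.taut f H Z.1 L) OE qE)
    (hh : TautSh.IsMapOfQuot π ((Scheme.Modules.pushforward f).obj L) O1 qP (πE ≫ H.hom) OE
      (TautSh.secantQuot f H Z.1 L πE OE qE) h)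
    (y : Spec (CommRingCat.of k) ⟶ P) (hy : y ≫ π = 𝟙 _)
    (c : Spec (CommRingCat.of k) ⟶ H.left) (hc : c ≫ H.hom = 𝟙 _)
    (hsur : Function.Surjective (rr f d H Z L c)) (hk : ∀ v, rr f d H Z L c v = 0 → Phi f π L O1 qP y v = 0) :
    ∃ a : Spec (CommRingCat.of k) ⟶ PE, a ≫ πE ≫ H.hom = 𝟙 _ ∧ a ≫ h = y := by
  obtain ⟨ψ, hψ⟩ := exists_lin_of_ker_le (R := Γ(Spec (CommRingCat.of k), ⊤)) (fun r v => f.appTop r • v) (rr f d H Z L c)
    (Phi f π L O1 qP y) hsur hk (fun r v => rr_smul c hc r v) (fun r v => Phi_smul f π L O1 qP y hy r v)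
  have hs : Function.Surjective ψ := fun t => by
    obtain ⟨v, rfl⟩ := Phi_surjective hL hP hy t
    exact ⟨_, hψ v⟩
  obtain ⟨a, ha, hka⟩ := point_exists hPE (isQCoh_taut hL) c
    (CurveRR.Multi.isFinLocFreeOfRank_pullback y hP.invertible) ψ hs
  have ha' : a ≫ πE ≫ H.hom = 𝟙 _ := by rw [← Category.assoc, ha, hc]
  refine ⟨a, ha', eq_of_Phi_ker hL hP (base_secant hh a ha') hy fun v => ?_⟩
  rw [Phi_secant hh a ha, hka, hψ]

/-- Two points with the same image: equal, or the kernel comes from a smaller subscheme. -/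
theorem eq_or_exists_smaller [IsAlgClosed k] {n : ℕ} {H : Over (Spec (CommRingCat.of k))} {Z : HilbD.Obj f (n + 1) H}
    {PE : Scheme.{u}} {πE : PE ⟶ H.left} {OE : PE.Modules}
    {qE : (Scheme.Modules.pullback πE).obj (TautSh.taut f H Z.1 L) ⟶ OE} {h : PE ⟶ P}
    (hinf : HasManyPoints f) (hL : FlatMod.IsFinLocFreeOfRank 1 L)
    (hva : ∀ K : X.IdealSheafData, Mor2.IsFinLocFreeOfDeg (2 * n + 2) (K.subschemeι ≫ f) →
      Function.Surjective (pb K.subschemeι L))
    (hU : HilbD.IsUniversal f (n + 1) H Z)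
    (hP : KRR.IsProjBundle π ((Scheme.Modules.pushforward f).obj L) O1 qP)
    (hPE : KRR.IsProjBundle πE (TautSh.taut f H Z.1 L) OE qE)
    (hh : TautSh.IsMapOfQuot π ((Scheme.Modules.pushforward f).obj L) O1 qP (πE ≫ H.hom) OE
      (TautSh.secantQuot f H Z.1 L πE OE qE) h)
    (a b : Spec (CommRingCat.of k) ⟶ PE) (ha : a ≫ πE ≫ H.hom = 𝟙 _) (hb : b ≫ πE ≫ H.hom = 𝟙 _)
    (hab : a ≫ h = b ≫ h) :
    a = b ∨ ∃ J₂ : X.IdealSheafData, Mor2.IsFinLocFreeOfDeg n (J₂.subschemeι ≫ f) ∧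
      Kr L J₂ ≤ (Phi f π L O1 qP (a ≫ h)).ker := by
  have hqc := isQCoh_rankOne hL
  have hca : (a ≫ πE) ≫ H.hom = 𝟙 _ := by rw [Category.assoc, ha]
  have hcb : (b ≫ πE) ≫ H.hom = 𝟙 _ := by rw [Category.assoc, hb]
  have hle : ∀ (e : Spec (CommRingCat.of k) ⟶ PE) (he : (e ≫ πE) ≫ H.hom = 𝟙 _),
      Kr L (idealAt f (n + 1) H Z (e ≫ πE)) ≤ (Phi f π L O1 qP (e ≫ h)).ker := by
    intro e he v hv
    rw [AddMonoidHom.mem_ker, Phi_secant hh e rfl, ((rr_spec f (n + 1) H Z hqc (e ≫ πE) he).1 v).2 hv]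
    exact map_zero _
  rcases split f hinf hqc n hva _ _ (deg_idealAt f (n + 1) H Z _ hca) (deg_idealAt f (n + 1) H Z _ hcb)
      _ (Phi_ker_ne_top hL hP (base_secant hh a ha)) (hle a hca) (hab ▸ hle b hcb) with hJ | hJ
  · left
    have hc : b ≫ πE = a ≫ πE := idealAt_injective hU hcb hca hJ.symm
    refine point_ext hPE (isQCoh_taut hL) a b rfl hc fun z => ?_
    have hsur := (rr_spec f (n + 1) H Z hqc (a ≫ πE) hca).2
      (surjective_of_le_deg f hinf hqc hva _ (deg_idealAt f (n + 1) H Z _ hca) (by omega))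
    obtain ⟨v, rfl⟩ := hsur z
    rw [← Phi_secant hh a rfl v, ← Phi_secant hh b hc v, hab]
  · exact Or.inr hJ

/-- A closed subscheme of degree one is a rational point, and its kernel is that of the morphism of the complete linear
system. -/
theorem exists_point_of_deg_one (hL : FlatMod.IsFinLocFreeOfRank 1 L)
    (hP : KRR.IsProjBundle π ((Scheme.Modules.pushforward f).obj L) O1 qP) {φ : X ⟶ P}
    (hφ : TautSh.IsMapOfQuot π ((Scheme.Modules.pushforward f).obj L) O1 qP f L (TautSh.linSysQuot f L) φ)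
    (y : Spec (CommRingCat.of k) ⟶ P) (hy : y ≫ π = 𝟙 _)
    (J : X.IdealSheafData) (hJ : Mor2.IsFinLocFreeOfDeg 1 (J.subschemeι ≫ f))
    (hle : Kr L J ≤ (Phi f π L O1 qP y).ker) :
    ∃ x : Spec (CommRingCat.of k) ⟶ X, x ≫ f = 𝟙 _ ∧ x ≫ φ = y := by
  let p := J.subschemeι ≫ f
  haveI : IsFinite p := hJ.1.1
  haveI : Flat p := hJ.1.2.1
  haveI : LocallyOfFinitePresentation p := hJ.1.2.2
  haveI : IsIso p := (Scheme.Hom.isIso_iff_finrank_eq p).2 (funext fun z => by
    rw [hJ.2 z, Pi.one_apply])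
  let x := inv p ≫ J.subschemeι
  have hx : x ≫ f = 𝟙 _ := by simp only [x, Category.assoc]; exact IsIso.inv_hom_id p
  haveI : IsClosedImmersion x := isClosedImmersion_of_comp_eq_id _ _ hx
  have hker : x.ker = J := by
    simp only [x, Scheme.Hom.ker_comp_of_isIso, Scheme.IdealSheafData.ker_subschemeι]
  have hxy : ∀ v, pb x L v = 0 → Phi f π L O1 qP y v = 0 := fun v hv =>
    hle (hker ▸ ((pb_closed_eq x L).1 v).1 hv)
  have hxφ : (x ≫ φ) ≫ π = 𝟙 _ := by
    obtain ⟨hg, -⟩ := hφ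
    rw [Category.assoc, hg, hx]
  have hP' : ∀ v, Phi f π L O1 qP (x ≫ φ) v = 0 ↔ pb x L v = 0 := fun v => by
    rw [Phi_apply, ker_map hφ x v, linSys_sec]
  refine ⟨x, hx, eq_of_Phi_ker hL hP hxφ hy fun v => (hP' v).trans ⟨hxy v, fun hv => ?_⟩⟩
  by_contra hne
  apply Phi_ker_ne_top hL hP hy
  refine (AddSubgroup.eq_top_iff' _).2 fun w => ?_
  obtain ⟨r, hr⟩ := exists_smul_of_ne_zero (CurveRR.Multi.isFinLocFreeOfRank_pullback x hL) hne (pb x L w)
  have h1 : pb x L (w - f.appTop r • v) = 0 := by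
    rw [map_sub, pb_smul, appTop_appTop x f hx r, Scheme.Hom.id_appTop]
    exact sub_eq_zero.2 hr.symm
  have h2 := hxy _ h1
  rw [map_sub, Phi_smul f π L O1 qP y hy r v, hv, smul_zero, sub_zero] at h2
  exact h2

end Groth.Agent.TautSecant

end
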