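import Groth.Agent.TautSecant.Subscheme
import Groth.Agent.W7AffBC.Basic
import Groth.Agent.Punct.Main
import Groth.Prelude.Def_TautSec
import Mathlib

/-!
The fibres of tautological sheaves at rational points of the Hilbert scheme of points.
-/

set_option autoImplicit false
set_option linter.style.haveILetI false
set_option linter.unusedSectionVars false
set_option backward.isDefEq.respectTransparency false
set_option backward.isDefEq.respectTransparency.types false

universe u

open CategoryTheory CategoryTheory.Limits AlgebraicGeometry TopologicalSpace Opposite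
open Groth.Agent.HilbRep

noncomputable section

namespace Groth.Agent.TautSecant

variable {X S : Scheme.{u}} (f : X ⟶ S) (d : ℕ) (H : Over S) (Z : HilbD.Obj f d H)

/-- The universal family as a pair of morphisms. -/
abbrev univFam : Fam f d H.left := ⟨H.hom, Z⟩

/-- The family parametrised by a point of `H`. -/
abbrev famAt (c : S ⟶ H.left) : Fam f d S := (univFam f d H Z).restr c

theorem isClosedImmersion_q (c : S ⟶ H.left) (hc : c ≫ H.hom = 𝟙 S) : IsClosedImmersion (famAt f d H Z c).q := by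
  have hg : (famAt f d H Z c).g = 𝟙 S := hc
  haveI : IsIso (famAt f d H Z c).g := by rw [hg]; infer_instance
  unfold Fam.q
  infer_instance

/-- The ideal sheaf of `X` of a point of `H`. -/
abbrev idealAt (c : S ⟶ H.left) : X.IdealSheafData := (famAt f d H Z c).q.ker

theorem deg_idealAt (c : S ⟶ H.left) (hc : c ≫ H.hom = 𝟙 S) :
    Mor2.IsFinLocFreeOfDeg d ((idealAt f d H Z c).subschemeι ≫ f) := by
  let z := famAt f d H Z c
  haveI : IsClosedImmersion z.q := isClosedImmersion_q f d H Z c hc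
  have e : z.q.toImage ≫ z.q.ker.subschemeι ≫ f = z.p := by
    refine (Scheme.Hom.toImage_imageι_assoc z.q f).trans ?_
    rw [z.q_f, show z.g = 𝟙 S from hc, Category.comp_id]
  have hp := z.mem
  rw [← e] at hp
  obtain ⟨⟨h1, h2, h3⟩, h4⟩ := hp
  rw [MorphismProperty.cancel_left_of_respectsIso (P := @IsFinite)] at h1
  rw [MorphismProperty.cancel_left_of_respectsIso (P := @Flat)] at h2
  rw [MorphismProperty.cancel_left_of_respectsIso (P := @LocallyOfFinitePresentation)] at h3
  haveI := h1; haveI := h2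
  exact ⟨⟨h1, h2, h3⟩, fun y => Eq.trans
    (congrFun (Scheme.Hom.finrank_comp_left_of_isIso z.q.toImage (z.q.ker.subschemeι ≫ f)).symm y) (h4 y)⟩

variable {f d H Z}

theorem idealAt_injective (hU : HilbD.IsUniversal f d H Z) {c c' : S ⟶ H.left} (hc : c ≫ H.hom = 𝟙 S)
    (hc' : c' ≫ H.hom = 𝟙 S) (h : idealAt f d H Z c = idealAt f d H Z c') : c = c' := by
  let z := famAt f d H Z c
  let z' := famAt f d H Z c'
  haveI : IsClosedImmersion z.q := isClosedImmersion_q f d H Z c hc
  haveI : IsClosedImmersion z'.q := isClosedImmersion_q f d H Z c' hc'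
  have key : ∀ (J J' : X.IdealSheafData) (_ : J = J'), ∃ e : J.subscheme ≅ J'.subscheme, e.hom ≫ J'.subschemeι = J.subschemeι := by
    rintro J _ rfl
    exact ⟨Iso.refl _, Category.id_comp _⟩
  obtain ⟨e₀, he₀⟩ := key _ _ h
  let e : z.sch ≅ z'.sch := asIso z.q.toImage ≪≫ e₀ ≪≫ (asIso z'.q.toImage).symm
  have hq : e.hom ≫ z'.q = z.q := by
    have h1 : (asIso z'.q.toImage).inv ≫ z'.q = z'.q.ker.subschemeι := by
      rw [asIso_inv, IsIso.inv_comp_eq]
      exact (Scheme.Hom.toImage_imageι z'.q).symm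
    simp only [e, Iso.trans_hom, Iso.symm_hom, Category.assoc, h1]
    exact (congrArg (z.q.toImage ≫ ·) he₀).trans (Scheme.Hom.toImage_imageι z.q)
  have hz : z = z' := by
    refine Fam.ext_iso (hc.trans hc'.symm) e ?_ hq
    calc e.hom ≫ z'.p = e.hom ≫ z'.p ≫ z'.g := by rw [show z'.g = 𝟙 S from hc', Category.comp_id]
      _ = z.p ≫ z.g := by rw [← z'.q_f, ← Category.assoc, hq, z.q_f]
      _ = z.p := by rw [show z.g = 𝟙 S from hc, Category.comp_id]
  exact (Groth.Agent.Punct.existsUnique_classify f d H Z hU z').unique hz rfl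

theorem exists_idealAt_eq [IsSeparated f] (hU : HilbD.IsUniversal f d H Z) (J : X.IdealSheafData)
    (hJ : Mor2.IsFinLocFreeOfDeg d (J.subschemeι ≫ f)) :
    ∃ c : S ⟶ H.left, c ≫ H.hom = 𝟙 S ∧ idealAt f d H Z c = J := by
  have hsq : J.subschemeι ≫ f = (J.subschemeι ≫ f) ≫ 𝟙 S := (Category.comp_id _).symm
  let l : J.subscheme ⟶ pullback f (𝟙 S) := pullback.lift J.subschemeι (J.subschemeι ≫ f) hsq
  haveI : IsClosedImmersion l := by
    haveI : IsClosedImmersion (l ≫ pullback.fst f (𝟙 S)) := by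
      rw [pullback.lift_fst]; infer_instance
    exact IsClosedImmersion.of_comp l (pullback.fst f (𝟙 S))
  let z : Fam f d S := Fam.ofPair (𝟙 S) (J.subschemeι ≫ f) J.subschemeι hsq hJ
  obtain ⟨c, hc, -⟩ := Groth.Agent.Punct.existsUnique_classify f d H Z hU z
  refine ⟨c, congrArg Fam.g hc, ?_⟩
  obtain ⟨e, -, he⟩ := Fam.exists_iso_ofPair (𝟙 S) (J.subschemeι ≫ f) J.subschemeι hsq hJ
  change (famAt f d H Z c).q.ker = J
  have hq : (famAt f d H Z c).q.ker = z.q.ker := by rw [show famAt f d H Z c = z from hc]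
  rw [hq, ← Scheme.Hom.ker_comp_of_isIso e.hom z.q, he, Scheme.IdealSheafData.ker_subschemeι]

variable (f d H Z)

/-- A global section of `L`, evaluated on the tautological sheaf. -/
def ev (L : X.Modules) (v : Γ(L, ⊤)) : Γ(TautSh.taut f H Z.1 L, ⊤) := pb (TautSh.famToX f H Z.1) L v

/-- Restriction of a global section of `L` to the fibre of the tautological sheaf at a point. -/
def rr (L : X.Modules) (c : S ⟶ H.left) :
    Γ(L, ⊤) →+ Γ((Scheme.Modules.pullback c).obj (TautSh.taut f H Z.1 L), ⊤) :=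
  (pb c (TautSh.taut f H Z.1 L)).comp (pb (TautSh.famToX f H Z.1) L)

theorem rr_apply (L : X.Modules) (c : S ⟶ H.left) (v : Γ(L, ⊤)) :
    rr f d H Z L c v = pb c (TautSh.taut f H Z.1 L) (ev f d H Z L v) := rfl

theorem rr_spec {L : X.Modules} (hL : Coh.IsQCoh L) (c : S ⟶ H.left) (hc : c ≫ H.hom = 𝟙 S) :
    (∀ v, rr f d H Z L c v = 0 ↔ v ∈ Kr L (idealAt f d H Z c)) ∧
      (Function.Surjective (pb (idealAt f d H Z c).subschemeι L) → Function.Surjective (rr f d H Z L c)) := by
  obtain ⟨a, hpb, haq⟩ := (univFam f d H Z).exists_isPullback_restr c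
  let z₀ := univFam f d H Z
  let z := famAt f d H Z c
  haveI : IsClosedImmersion z.q := isClosedImmersion_q f d H Z c hc
  let M := (Scheme.Modules.pullback z₀.q).obj L
  have hM : Coh.IsQCoh M := Groth.Agent.QC.isQCoh_pullback z₀.q hL
  let θ := W7AffBC.theta hpb M
  let B := ((Scheme.Modules.pullbackPushforwardAdjunction c).homEquiv _ _).symm θ
  haveI : IsIso B := W7AffBC.isIso_baseChange hpb M hM
  have hB : ∀ m : Γ(M, ⊤), B.app ⊤ (pb c (TautSh.taut f H Z.1 L) m) = pb a M m := by
    intro m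
    have h1 : ((Scheme.Modules.pullbackPushforwardAdjunction c).homEquiv _ _) B = θ := Equiv.apply_symm_apply _ _
    rw [Adjunction.homEquiv_unit] at h1
    have h2 := congr(($h1).app ⊤ m)
    refine h2.trans ?_
    exact (W7AffBC.theta_app hpb M ⊤ m le_top).trans (Groth.Agent.QC.res_self _ _ _)
  have hker : ∀ v, rr f d H Z L c v = 0 ↔ pb (a ≫ z₀.q) L v = 0 := fun v => by
    rw [ker_pb_comp, show pb a M (pb z₀.q L v) = B.app ⊤ (rr f d H Z L c v) from (hB _).symm]
    exact ⟨fun h => by rw [h]; exact map_zero _, fun h => app_iso_injective (asIso B) (h.trans (map_zero _).symm)⟩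
  have hsur : Function.Surjective (pb (a ≫ z₀.q) L) → Function.Surjective (rr f d H Z L c) := by
    rw [surjective_pb_comp_iff]
    intro h y
    obtain ⟨v, hv⟩ := h (B.app ⊤ y)
    exact ⟨v, app_iso_injective (asIso B) ((hB _).trans hv)⟩
  rw [haq] at hker hsur
  exact ⟨fun v => (hker v).trans ((pb_closed_eq z.q L).1 v), fun h => hsur ((pb_closed_eq z.q L).2.2 h)⟩

end Groth.Agent.TautSecant
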