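import Groth.Agent.SymAlg.PullBC
import Groth.Agent.DCDesc.Basic
import Groth.Agent.QC.Pullback
import Mathlib

/-!
Pull-back of global sections: composition, isomorphisms, closed immersions of affine schemes.
-/

set_option autoImplicit false
set_option linter.style.haveILetI false
set_option backward.isDefEq.respectTransparency false
set_option backward.isDefEq.respectTransparency.types false

universe u

open CategoryTheory CategoryTheory.Limits AlgebraicGeometry TopologicalSpace Opposite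
open Groth.Agent.QC (res res_self)

noncomputable section

namespace Groth.Agent.TautSecant

variable {X Y Z : Scheme.{u}}

/-- The pull-back of a global section. -/
def pb (r : X ⟶ Y) (M : Y.Modules) : Γ(M, ⊤) →+ Γ((Scheme.Modules.pullback r).obj M, ⊤) :=
  ProjMor.eta r M ⊤

theorem pb_eq (r : X ⟶ Y) (M : Y.Modules) (w : Γ(M, ⊤)) :
    pb r M w = ((Scheme.Modules.pullbackPushforwardAdjunction r).unit.app M).app ⊤ w := rfl

theorem pb_smul (r : X ⟶ Y) (M : Y.Modules) (c : Γ(Y, ⊤)) (w : Γ(M, ⊤)) :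
    pb r M (c • w) = r.appTop c • pb r M w :=
  ProjMor.eta_smul r M c w

theorem pb_comp (f : X ⟶ Y) (g : Y ⟶ Z) (M : Z.Modules) (w : Γ(M, ⊤)) :
    ((Scheme.Modules.pullbackComp f g).inv.app M).app ⊤ (pb (f ≫ g) M w) =
      pb f ((Scheme.Modules.pullback g).obj M) (pb g M w) :=
  DCDesc.eta_comp f g M ⊤ w

theorem pb_comp_hom (f : X ⟶ Y) (g : Y ⟶ Z) (M : Z.Modules) (w : Γ(M, ⊤)) :
    ((Scheme.Modules.pullbackComp f g).hom.app M).app ⊤ (pb f ((Scheme.Modules.pullback g).obj M) (pb g M w)) =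
      pb (f ≫ g) M w := by
  rw [← pb_comp]
  exact congr(($((Scheme.Modules.pullbackComp f g).inv_hom_id_app M)).app ⊤ (pb (f ≫ g) M w))

theorem pb_congr {g h : X ⟶ Y} (e : g = h) (M : Y.Modules) (w : Γ(M, ⊤)) :
    ((Scheme.Modules.pullbackCongr e).hom.app M).app ⊤ (pb g M w) = pb h M w := by
  subst e
  rfl

theorem pb_congr_inv {g h : X ⟶ Y} (e : g = h) (M : Y.Modules) (w : Γ(M, ⊤)) :
    ((Scheme.Modules.pullbackCongr e).inv.app M).app ⊤ (pb h M w) = pb g M w := by
  subst e
  rfl

theorem pb_nat (r : X ⟶ Y) {M N : Y.Modules} (φ : M ⟶ N) (w : Γ(M, ⊤)) :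
    ((Scheme.Modules.pullback r).map φ).app ⊤ (pb r M w) = pb r N (φ.app ⊤ w) :=
  congr(($(((Scheme.Modules.pullbackPushforwardAdjunction r).unit.naturality φ))).app ⊤ w).symm

theorem app_iso_injective {M N : X.Modules} (e : M ≅ N) : Function.Injective (e.hom.app ⊤) :=
  Function.LeftInverse.injective (g := e.inv.app ⊤) fun w => congr(($(e.hom_inv_id)).app ⊤ w)

theorem app_iso_surjective {M N : X.Modules} (e : M ≅ N) : Function.Surjective (e.hom.app ⊤) :=
  Function.RightInverse.surjective (g := e.inv.app ⊤) fun w => congr(($(e.inv_hom_id)).app ⊤ w)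

theorem pb_id_bijective (M : X.Modules) : Function.Bijective (pb (𝟙 X) M) := by
  have h := unit_conjugateEquiv .id (Scheme.Modules.pullbackPushforwardAdjunction (𝟙 X))
    (Scheme.Modules.pullbackId X).hom M
  rw [Scheme.Modules.conjugateEquiv_pullbackId_hom] at h
  have key : ∀ w : Γ(M, ⊤), ((Scheme.Modules.pullbackId X).hom.app M).app ⊤ (pb (𝟙 X) M w) = w :=
    fun w => (congr(($h).app ⊤ w)).symm
  refine ⟨Function.LeftInverse.injective key, fun w => ⟨((Scheme.Modules.pullbackId X).hom.app M).app ⊤ w, ?_⟩⟩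
  exact app_iso_injective ((Scheme.Modules.pullbackId X).app M) (key _)

theorem pb_congr_bijective {g h : X ⟶ Y} (e : g = h) (M : Y.Modules) (hg : Function.Bijective (pb g M)) :
    Function.Bijective (pb h M) := by
  subst e
  exact hg

theorem pb_iso_injective (e : X ⟶ Y) [IsIso e] (M : Y.Modules) : Function.Injective (pb e M) := by
  have hb := pb_congr_bijective (IsIso.inv_hom_id e).symm M (pb_id_bijective M)
  intro a b h
  apply hb.1
  apply app_iso_injective ((Scheme.Modules.pullbackComp (inv e) e).app M).symm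
  change ((Scheme.Modules.pullbackComp (inv e) e).inv.app M).app ⊤ _ = _
  rw [pb_comp, h, ← pb_comp]
  rfl

theorem pb_iso_bijective (e : X ⟶ Y) [IsIso e] (M : Y.Modules) : Function.Bijective (pb e M) := by
  refine ⟨pb_iso_injective e M, fun y => ?_⟩
  have hb := pb_congr_bijective (IsIso.inv_hom_id e).symm M (pb_id_bijective M)
  obtain ⟨w, hw⟩ := hb.2 (((Scheme.Modules.pullbackComp (inv e) e).hom.app M).app ⊤ (pb (inv e) _ y))
  refine ⟨w, pb_iso_injective (inv e) _ ?_⟩
  rw [← pb_comp, hw]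
  exact congr(($((Scheme.Modules.pullbackComp (inv e) e).hom_inv_id_app M)).app ⊤ (pb (inv e) _ y))

theorem ker_pb_comp (f : X ⟶ Y) (g : Y ⟶ Z) (M : Z.Modules) (w : Γ(M, ⊤)) :
    pb (f ≫ g) M w = 0 ↔ pb f ((Scheme.Modules.pullback g).obj M) (pb g M w) = 0 := by
  rw [← pb_comp]
  exact ⟨fun h => by rw [h]; exact map_zero _,
    fun h => app_iso_injective ((Scheme.Modules.pullbackComp f g).app M).symm (h.trans (map_zero _).symm)⟩

theorem surjective_pb_comp_iff (f : X ⟶ Y) (g : Y ⟶ Z) (M : Z.Modules) :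
    Function.Surjective (pb (f ≫ g) M) ↔ Function.Surjective (pb f ((Scheme.Modules.pullback g).obj M) ∘ pb g M) := by
  constructor
  · intro h y
    obtain ⟨w, hw⟩ := h (((Scheme.Modules.pullbackComp f g).hom.app M).app ⊤ y)
    refine ⟨w, ?_⟩
    rw [Function.comp_apply, ← pb_comp, hw]
    exact congr(($((Scheme.Modules.pullbackComp f g).hom_inv_id_app M)).app ⊤ y)
  · intro h y
    obtain ⟨w, hw⟩ := h (((Scheme.Modules.pullbackComp f g).inv.app M).app ⊤ y)
    refine ⟨w, app_iso_injective ((Scheme.Modules.pullbackComp f g).app M).symm ?_⟩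
    exact (pb_comp f g M w).trans hw

/-- Pull-back of sections to a closed subscheme of an affine scheme. -/
theorem pb_closed_affine [IsAffine Y] (σ : X ⟶ Y) [IsClosedImmersion σ] {M : Y.Modules} (hM : Coh.IsQCoh M) :
    Function.Surjective (pb σ M) ∧
      ∀ m : Γ(M, ⊤), pb σ M m = 0 ↔ m ∈ RingHom.ker σ.appTop.hom • (⊤ : Submodule Γ(Y, ⊤) Γ(M, ⊤)) := by
  haveI : IsAffine X := isAffine_of_isAffineHom σ
  let A := Γ(Y, ⊤)
  let B := Γ(X, ⊤)
  let φ : A →+* B := σ.appTop.hom
  have hφs : Function.Surjective φ := (IsClosedImmersion.isAffine_surjective_of_isAffine σ).2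
  let N := Γ((Scheme.Modules.pullback σ).obj M, ⊤)
  have hbc := RelTilde.isBC_unit σ hM (isAffineOpen_top Y) (V := ⊤) (isAffineOpen_top X) le_rfl
  have happ : ∀ a : A, (σ.appLE ⊤ ⊤ le_rfl).hom a = φ a := fun a => by
    change (X.presheaf.map (homOfLE (le_refl (⊤ : X.Opens))).op).hom (σ.appTop.hom a) = _
    rw [show (homOfLE (le_refl (⊤ : X.Opens))).op = 𝟙 _ from rfl, CategoryTheory.Functor.map_id]
    rfl
  have hθ : ∀ m : Γ(M, ⊤), RelTilde.resθ σ ((Scheme.Modules.pullbackPushforwardAdjunction σ).unit.app M)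
      (le_refl (⊤ : X.Opens)) m = pb σ M m := fun m => res_self _ _ _
  constructor
  · let S : Submodule B N :=
      { carrier := Set.range (pb σ M)
        add_mem' := by rintro _ _ ⟨a, rfl⟩ ⟨b, rfl⟩; exact ⟨a + b, map_add _ a b⟩
        zero_mem' := ⟨0, map_zero _⟩
        smul_mem' := by
          rintro c _ ⟨a, rfl⟩
          obtain ⟨c', rfl⟩ := hφs c
          exact ⟨c' • a, pb_smul σ M c' a⟩ }
    obtain ⟨F, -, hu⟩ := hbc (N ⧸ S) 0
    have h1 : S.mkQ = F := hu S.mkQ fun m => (Submodule.Quotient.mk_eq_zero S).2 ⟨m, (hθ m).symm⟩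
    have h2 : (0 : N →ₗ[B] N ⧸ S) = F := hu 0 fun m => rfl
    intro y
    exact (Submodule.Quotient.mk_eq_zero S).1 (LinearMap.congr_fun (h1.trans h2.symm) y)
  · intro m
    constructor
    · intro hm
      let I : Ideal A := RingHom.ker φ
      let e : (A ⧸ I) ≃+* B := RingHom.quotientKerEquivOfSurjective hφs
      letI : Module B (Γ(M, ⊤) ⧸ I • (⊤ : Submodule A Γ(M, ⊤))) := Module.compHom _ e.symm.toRingHom
      have hsm : ∀ (a : A) (y : Γ(M, ⊤) ⧸ I • (⊤ : Submodule A Γ(M, ⊤))), φ a • y = a • y := by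
        intro a y
        change (e.symm (φ a)) • y = a • y
        rw [show φ a = e (Ideal.Quotient.mk I a) from rfl, e.symm_apply_apply]
        rfl
      let w : Γ(M, ⊤) →ₛₗ[(σ.appLE ⊤ ⊤ le_rfl).hom] (Γ(M, ⊤) ⧸ I • (⊤ : Submodule A Γ(M, ⊤))) :=
        { toFun := Submodule.mkQ _
          map_add' := fun _ _ => rfl
          map_smul' := fun a y => by
            rw [happ, hsm]
            rfl }
      obtain ⟨F, hF, -⟩ := hbc _ w
      have := hF m
      rw [hθ, hm, map_zero] at this
      exact (Submodule.Quotient.mk_eq_zero _).1 this.symm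
    · intro hm
      refine Submodule.smul_induction_on hm (fun a ha y _ => ?_) (fun a b ha hb => by rw [map_add, ha, hb, add_zero])
      rw [pb_smul, show σ.appTop a = 0 from ha, zero_smul]

end Groth.Agent.TautSecant
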