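import Groth.Agent.TautSecant.Union
import Mathlib

/-!
Conditions imposed by two finite subschemes on the sections of a sufficiently very ample module.
-/

set_option autoImplicit false
set_option linter.style.haveILetI false
set_option backward.isDefEq.respectTransparency false
set_option backward.isDefEq.respectTransparency.types false

universe u

open CategoryTheory CategoryTheory.Limits AlgebraicGeometry TopologicalSpace Opposite

noncomputable section

namespace Groth.Agent.TautSecant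

variable {k : Type u} [Field k]

/-- An ideal of a finite algebra over an algebraically closed field contains one of colength one more. -/
theorem exists_step [IsAlgClosed k] {R : Type u} [CommRing R] [Algebra k R] [Module.Finite k R] {a c : Ideal R}
    (hac : a < c) :
    ∃ c', a ≤ c' ∧ c' < c ∧ Module.finrank k (R ⧸ c') = Module.finrank k (R ⧸ c) + 1 := by
  haveI : IsNoetherianRing R := IsNoetherianRing.of_finite k R
  obtain ⟨c', ⟨h1, h2⟩, hmax⟩ := (IsWellFounded.wf (r := ((· > ·) : Ideal R → Ideal R → Prop))).has_min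
    {x | a ≤ x ∧ x < c} ⟨a, le_rfl, hac⟩
  refine ⟨c', h1, h2, ?_⟩
  obtain ⟨s, hsc, hsc'⟩ := SetLike.exists_of_lt h2
  let m : Ideal R := Submodule.colon c' {s}
  have hm : ∀ r, r ∈ m ↔ r * s ∈ c' := fun r => Submodule.mem_colon_singleton
  have hne : m ≠ ⊤ := fun h => hsc' (by simpa using (hm 1).1 (h ▸ Submodule.mem_top))
  obtain ⟨M, hM, hmM⟩ := Ideal.exists_le_maximal m hne
  have hMs : ∀ t ∈ M, t * s ∈ c' := by
    intro t ht
    by_contra hts
    have hlt : c' < c' ⊔ Ideal.span {t * s} :=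
      left_lt_sup.2 fun h => hts (h (Ideal.subset_span rfl))
    have hle : c' ⊔ Ideal.span {t * s} ≤ c :=
      sup_le h2.le ((Ideal.span_singleton_le_iff_mem _).2 (c.mul_mem_left t hsc))
    rcases hle.eq_or_lt with e | e
    · have hs : s ∈ c' ⊔ Ideal.span {t * s} := e ▸ hsc
      obtain ⟨y, hy, z, hz, hyz⟩ := Submodule.mem_sup.1 hs
      obtain ⟨r, rfl⟩ := Ideal.mem_span_singleton'.1 hz
      have h3 : 1 - r * t ∈ m := (hm _).2 (by
        have : (1 - r * t) * s = y := by linear_combination -hyz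
        rw [this]; exact hy)
      exact hM.ne_top ((Ideal.eq_top_iff_one _).2 (by simpa using M.add_mem (hmM h3) (M.mul_mem_left r ht)))
    · exact hmax _ ⟨h1.trans le_sup_left, e⟩ hlt
  letI := Ideal.Quotient.field M
  haveI : Module.Finite k (R ⧸ M) := Module.Finite.quotient k M
  have hk : Function.Surjective (algebraMap k (R ⧸ M)) :=
    (IsAlgClosed.algebraMap_bijective_of_isIntegral).2
  have hdec : ∀ r : R, ∃ l : k, r - algebraMap k R l ∈ M := fun r => by
    obtain ⟨l, hl⟩ := hk (Ideal.Quotient.mk M r)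
    exact ⟨l, Ideal.Quotient.eq.1 hl.symm⟩
  have hlt : c'.restrictScalars k ⊔ k ∙ s = c.restrictScalars k := by
    refine le_antisymm (sup_le (fun x hx => h2.le hx) ((Submodule.span_singleton_le_iff_mem _ _).2 hsc)) fun x hx => ?_
    have hsp : c' ⊔ Ideal.span {s} = c := by
      refine le_antisymm (sup_le h2.le ((Ideal.span_singleton_le_iff_mem _).2 hsc)) ?_
      by_contra hcon
      exact hmax _ ⟨h1.trans le_sup_left, lt_of_le_of_ne (sup_le h2.le ((Ideal.span_singleton_le_iff_mem _).2 hsc))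
        fun h => hcon h.ge⟩ (left_lt_sup.2 fun h => hsc' (h (Ideal.subset_span rfl)))
    have hx' : x ∈ c' ⊔ Ideal.span {s} := by rw [hsp]; exact hx
    obtain ⟨y, hy, z, hz, rfl⟩ := Submodule.mem_sup.1 hx'
    obtain ⟨r, rfl⟩ := Ideal.mem_span_singleton'.1 hz
    obtain ⟨l, hl⟩ := hdec r
    refine Submodule.mem_sup.2 ⟨y + (r - algebraMap k R l) * s, c'.add_mem hy (hMs _ hl), l • s,
      Submodule.smul_mem _ _ (Submodule.mem_span_singleton_self s), ?_⟩
    rw [Algebra.smul_def]; ring
  have hs0 : s ∉ c'.restrictScalars k := hsc'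
  have hd1 : Module.finrank k ↥(c'.restrictScalars k) + 1 = Module.finrank k ↥(c.restrictScalars k) := by
    have h3 := Submodule.finrank_sup_add_finrank_inf_eq (c'.restrictScalars k) (k ∙ s)
    rw [hlt, show (c'.restrictScalars k) ⊓ (k ∙ s) = ⊥ from ?_, finrank_bot, add_zero,
      finrank_span_singleton (fun h : s = 0 => hsc' (h ▸ c'.zero_mem))] at h3
    · exact h3.symm
    · refine eq_bot_iff.2 fun y ⟨hy, hy'⟩ => ?_
      obtain ⟨l, rfl⟩ := Submodule.mem_span_singleton.1 hy'
      by_contra hl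
      have hl0 : l ≠ 0 := fun h => hl (by rw [h, zero_smul]; exact Submodule.zero_mem _)
      exact hs0 (by simpa [smul_smul, inv_mul_cancel₀ hl0] using (c'.restrictScalars k).smul_mem l⁻¹ hy)
  have e1 := (c'.restrictScalars k).finrank_quotient_add_finrank
  have e2 := (c.restrictScalars k).finrank_quotient_add_finrank
  rw [(Submodule.Quotient.restrictScalarsEquiv k c').finrank_eq] at e1
  rw [(Submodule.Quotient.restrictScalarsEquiv k c).finrank_eq] at e2
  omega

theorem exists_between [IsAlgClosed k] {R : Type u} [CommRing R] [Algebra k R] [Module.Finite k R] {a : Ideal R}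
    (n : ℕ) (hn : n ≤ Module.finrank k (R ⧸ a)) :
    ∀ c : Ideal R, a ≤ c → Module.finrank k (R ⧸ c) ≤ n →
      ∃ c', a ≤ c' ∧ c' ≤ c ∧ Module.finrank k (R ⧸ c') = n := by
  intro c hac hc
  induction h : n - Module.finrank k (R ⧸ c) generalizing c with
  | zero => exact ⟨c, hac, le_rfl, by omega⟩
  | succ m ih =>
    have hne : a ≠ c := by rintro rfl; omega
    obtain ⟨c', h1, h2, h3⟩ := exists_step (k := k) (lt_of_le_of_ne hac hne)
    obtain ⟨c'', h4, h5, h6⟩ := ih c' h1 (by omega) (by omega)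
    exact ⟨c'', h4, h5.trans h2.le, h6⟩

variable {X : Scheme.{u}} (f : X ⟶ Spec (CommRingCat.of k)) [IsProper f]

/-- The hypothesis that there are infinitely many rational points. -/
def HasManyPoints : Prop :=
  ∀ S : Set X, S.Finite → ∃ x : Spec (CommRingCat.of k) ⟶ X, x ≫ f = 𝟙 _ ∧ x (IsLocalRing.closedPoint k) ∉ S

theorem surjective_of_le_deg (hinf : HasManyPoints f) {L : X.Modules} (hL : Coh.IsQCoh L) {N : ℕ}
    (hva : ∀ K : X.IdealSheafData, Mor2.IsFinLocFreeOfDeg N (K.subschemeι ≫ f) →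
      Function.Surjective (pb K.subschemeι L))
    (J : X.IdealSheafData) {l : ℕ} (hJ : Mor2.IsFinLocFreeOfDeg l (J.subschemeι ≫ f)) (hl : l ≤ N) :
    Function.Surjective (pb J.subschemeι L) := by
  obtain ⟨K, hKJ, hK⟩ := exists_extend f hinf J hJ N hl
  haveI : IsFinite (K.subschemeι ≫ f) := hK.1.1
  haveI : IsAffine K.subscheme := isAffine_of_fin f K
  obtain ⟨a, rfl⟩ := exists_eq_mk K hKJ
  exact surjective_mk K hL a (hva K hK)

/-- Two subschemes of degree `n + 1` imposing conditions with a common proper subgroup of sections. -/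
theorem split [IsAlgClosed k] (hinf : HasManyPoints f) {L : X.Modules} (hL : Coh.IsQCoh L) (n : ℕ)
    (hva : ∀ K : X.IdealSheafData, Mor2.IsFinLocFreeOfDeg (2 * n + 2) (K.subschemeι ≫ f) →
      Function.Surjective (pb K.subschemeι L))
    (J J' : X.IdealSheafData) (hJ : Mor2.IsFinLocFreeOfDeg (n + 1) (J.subschemeι ≫ f))
    (hJ' : Mor2.IsFinLocFreeOfDeg (n + 1) (J'.subschemeι ≫ f))
    (V : AddSubgroup Γ(L, ⊤)) (hV : V ≠ ⊤) (h1 : Kr L J ≤ V) (h2 : Kr L J' ≤ V) :
    J = J' ∨ ∃ J₂ : X.IdealSheafData, Mor2.IsFinLocFreeOfDeg n (J₂.subschemeι ≫ f) ∧ Kr L J₂ ≤ V := by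
  haveI : IsFinite (J.subschemeι ≫ f) := hJ.1.1
  haveI : IsFinite (J'.subschemeι ≫ f) := hJ'.1.1
  let W := J ⊓ J'
  haveI : IsFinite (W.subschemeι ≫ f) := isFinite_inf f J J'
  haveI : IsAffine W.subscheme := isAffine_of_fin f W
  letI := (sAlg (W.subschemeι ≫ f)).toAlgebra
  haveI : Module.Finite k Γ(W.subscheme, ⊤) := finite_sAlg _
  obtain ⟨a, ha⟩ := exists_eq_mk W (inf_le_left : W ≤ J)
  obtain ⟨b, hb⟩ := exists_eq_mk W (inf_le_right : W ≤ J')
  have hra := (deg_mk_iff f W a (n + 1)).1 (by rw [ha]; exact hJ)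
  have hrb := (deg_mk_iff f W b (n + 1)).1 (by rw [hb]; exact hJ')
  have hW : mk W ⊥ = W :=
    le_antisymm (le_inf ((mk_mono W bot_le).trans ha.le) ((mk_mono W bot_le).trans hb.le)) (le_mk W ⊥)
  have hWd : Mor2.IsFinLocFreeOfDeg (Module.finrank k Γ(W.subscheme, ⊤)) (W.subschemeι ≫ f) :=
    (deg_iff (W.subschemeι ≫ f) _).2 rfl
  have hWle : Module.finrank k Γ(W.subscheme, ⊤) ≤ 2 * n + 2 := by
    have hab : a ⊓ b = ⊥ := by
      have hle : mk W (a ⊓ b) ≤ W := le_inf ((mk_mono W inf_le_left).trans ha.le) ((mk_mono W inf_le_right).trans hb.le)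
      have heq : mk W (a ⊓ b) = W := le_antisymm hle (le_mk W _)
      have h4 := (deg_mk_iff f W (a ⊓ b) _).1 (by rw [heq]; exact hWd)
      have h5 := ((a ⊓ b).restrictScalars k).finrank_quotient_add_finrank
      rw [(Submodule.Quotient.restrictScalarsEquiv k (a ⊓ b)).finrank_eq, h4] at h5
      have h6 : Module.finrank k ↥((a ⊓ b).restrictScalars k) = 0 := by omega
      exact (Submodule.restrictScalars_eq_bot_iff k Γ(W.subscheme, ⊤) Γ(W.subscheme, ⊤)).1 (Submodule.finrank_eq_zero.1 h6)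
    let φ : Γ(W.subscheme, ⊤) →ₗ[k] (Γ(W.subscheme, ⊤) ⧸ a) × (Γ(W.subscheme, ⊤) ⧸ b) :=
      ((Ideal.Quotient.mkₐ k a).toLinearMap).prod (Ideal.Quotient.mkₐ k b).toLinearMap
    haveI : Module.Finite k (Γ(W.subscheme, ⊤) ⧸ a) := Module.Finite.quotient k a
    haveI : Module.Finite k (Γ(W.subscheme, ⊤) ⧸ b) := Module.Finite.quotient k b
    have hφ : Function.Injective φ := by
      rw [injective_iff_map_eq_zero]
      intro r hr
      have h7 : r ∈ a ⊓ b := ⟨Ideal.Quotient.eq_zero_iff_mem.1 (congrArg Prod.fst hr),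
        Ideal.Quotient.eq_zero_iff_mem.1 (congrArg Prod.snd hr)⟩
      rwa [hab] at h7
    have := LinearMap.finrank_le_finrank_of_injective hφ
    rw [Module.finrank_prod, hra, hrb] at this
    omega
  have hsurj := surjective_of_le_deg f hinf hL hva W hWd hWle
  let π := pb W.subschemeι L
  let P := V.map π
  have hle : ∀ (c : Ideal Γ(W.subscheme, ⊤)), Kr L (mk W c) ≤ V →
      ∀ m ∈ c • (⊤ : Submodule Γ(W.subscheme, ⊤) Γ((Scheme.Modules.pullback W.subschemeι).obj L, ⊤)), m ∈ P := by
    intro c hc m hm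
    obtain ⟨v, rfl⟩ := hsurj m
    exact ⟨v, hc ((mem_Kr_mk W hL c v).2 hm), rfl⟩
  have hsum : ∀ m ∈ (a ⊔ b) • (⊤ : Submodule Γ(W.subscheme, ⊤) Γ((Scheme.Modules.pullback W.subschemeι).obj L, ⊤)),
      m ∈ P := by
    intro m hm
    rw [Submodule.sup_smul] at hm
    obtain ⟨y, hy, z, hz, rfl⟩ := Submodule.mem_sup.1 hm
    exact P.add_mem (hle a (by rw [ha]; exact h1) y hy) (hle b (by rw [hb]; exact h2) z hz)
  have hsub : ∀ v, π v ∈ P → v ∈ V := by
    rintro v ⟨v', hv', he⟩
    have h8 : v - v' ∈ Kr L W := (mem_Kr _).2 (by rw [map_sub]; exact sub_eq_zero.2 he.symm)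
    have h9 : v - v' ∈ Kr L J := by
      rw [← ha, mem_Kr_mk W hL, (mem_Kr (v - v')).1 h8]
      exact Submodule.zero_mem _
    simpa using V.add_mem (h1 h9) hv'
  have htop : a ⊔ b ≠ ⊤ := fun h => hV ((AddSubgroup.eq_top_iff' V).2 fun v =>
    hsub v (hsum _ (by rw [h, Submodule.top_smul]; exact Submodule.mem_top)))
  by_cases hab : a ⊔ b = a
  · left
    have hba : b ≤ a := hab ▸ le_sup_right
    have hrk : Module.finrank k ↥(b.restrictScalars k) = Module.finrank k ↥(a.restrictScalars k) := by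
      have e1 := (a.restrictScalars k).finrank_quotient_add_finrank
      have e2 := (b.restrictScalars k).finrank_quotient_add_finrank
      rw [(Submodule.Quotient.restrictScalarsEquiv k a).finrank_eq] at e1
      rw [(Submodule.Quotient.restrictScalarsEquiv k b).finrank_eq] at e2
      omega
    have := Submodule.eq_of_le_of_finrank_eq (S₁ := b.restrictScalars k) (S₂ := a.restrictScalars k)
      (fun x hx => hba hx) hrk
    rw [← ha, ← hb, Submodule.restrictScalars_injective k _ _ this]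
  · right
    have hlt : a < a ⊔ b := lt_of_le_of_ne le_sup_left (Ne.symm hab)
    have hl : Module.finrank k (Γ(W.subscheme, ⊤) ⧸ (a ⊔ b)) ≤ n := by
      have hlt' : a.restrictScalars k < (a ⊔ b).restrictScalars k :=
        lt_of_le_of_ne (fun x hx => hlt.le hx) fun h => hlt.ne (Submodule.restrictScalars_injective k _ _ h)
      have h10 := Submodule.finrank_lt_finrank_of_lt hlt'
      have e1 := (a.restrictScalars k).finrank_quotient_add_finrank
      have e2 := ((a ⊔ b).restrictScalars k).finrank_quotient_add_finrank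
      rw [(Submodule.Quotient.restrictScalarsEquiv k a).finrank_eq] at e1
      rw [(Submodule.Quotient.restrictScalarsEquiv k (a ⊔ b)).finrank_eq] at e2
      omega
    obtain ⟨c, -, hcle, hcr⟩ := exists_between (k := k) n (by omega) (a ⊔ b) le_sup_left hl
    refine ⟨mk W c, (deg_mk_iff f W c n).2 hcr, fun v hv => hsub v (hsum _ ?_)⟩
    exact Submodule.smul_mono_left hcle ((mem_Kr_mk W hL c v).1 hv)

end Groth.Agent.TautSecant
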