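import Groth.Agent.TautSecant.Sections
import Groth.Prelude.Def_Mor2
import Mathlib

/-!
Finite subschemes of a separated scheme over an algebraically closed field, described by ideals of the
coordinate ring of a larger finite subscheme, and the restriction of sections to them.
-/

set_option autoImplicit false
set_option linter.style.haveILetI false
set_option backward.isDefEq.respectTransparency false
set_option backward.isDefEq.respectTransparency.types false

universe u

open CategoryTheory CategoryTheory.Limits AlgebraicGeometry TopologicalSpace Opposite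

noncomputable section

namespace Groth.Agent.TautSecant

/-- The structure map on global functions. -/
def sAlg {k : Type u} [CommRing k] {V : Scheme.{u}} (p : V ⟶ Spec (CommRingCat.of k)) : k →+* Γ(V, ⊤) :=
  ((Scheme.ΓSpecIso (CommRingCat.of k)).inv ≫ p.appTop).hom

/-- The dimension of the global functions. -/
def dimk {k : Type u} [CommRing k] {V : Scheme.{u}} (p : V ⟶ Spec (CommRingCat.of k)) : ℕ :=
  @Module.finrank k Γ(V, ⊤) _ _ (sAlg p).toAlgebra.toModule

variable {k : Type u} [Field k]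

theorem eq_isoSpec_map {V : Scheme.{u}} [IsAffine V] (p : V ⟶ Spec (CommRingCat.of k)) :
    V.isoSpec.hom ≫ Spec.map (CommRingCat.ofHom (sAlg p)) = p := by
  change V.toSpecΓ ≫ Spec.map ((Scheme.ΓSpecIso (CommRingCat.of k)).inv ≫ p.appTop) = p
  rw [Spec.map_comp, ← Category.assoc, ← Scheme.toSpecΓ_naturality, Category.assoc]
  have : (Spec (CommRingCat.of k)).toSpecΓ ≫ Spec.map (Scheme.ΓSpecIso (CommRingCat.of k)).inv = 𝟙 _ :=
    toSpecΓ_SpecMap_ΓSpecIso_inv (CommRingCat.of k)
  rw [this, Category.comp_id]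

theorem finite_sAlg {V : Scheme.{u}} [IsAffine V] (p : V ⟶ Spec (CommRingCat.of k)) [IsFinite p] :
    (sAlg p).Finite := by
  have h : IsFinite (V.isoSpec.hom ≫ Spec.map (CommRingCat.ofHom (sAlg p))) := by
    rw [eq_isoSpec_map]; infer_instance
  rw [MorphismProperty.cancel_left_of_respectsIso (P := @IsFinite)] at h
  exact (IsFinite.SpecMap_iff _).1 h

theorem deg_iff {V : Scheme.{u}} [IsAffine V] (p : V ⟶ Spec (CommRingCat.of k)) [IsFinite p] (d : ℕ) :
    Mor2.IsFinLocFreeOfDeg d p ↔ dimk p = d := by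
  letI : Algebra k Γ(V, ⊤) := (sAlg p).toAlgebra
  haveI : Module.Finite k Γ(V, ⊤) := finite_sAlg p
  haveI : Flat (Spec.map (CommRingCat.ofHom (algebraMap k Γ(V, ⊤)))) :=
    Flat.SpecMap_iff.2 (RingHom.flat_algebraMap_iff.2 inferInstance)
  haveI : IsFinite (Spec.map (CommRingCat.ofHom (algebraMap k Γ(V, ⊤)))) :=
    (IsFinite.SpecMap_iff _).2 (RingHom.finite_algebraMap.2 inferInstance)
  have e : ∀ y, p.finrank y = dimk p := fun y => by
    calc p.finrank y = (V.isoSpec.hom ≫ Spec.map (CommRingCat.ofHom (algebraMap k Γ(V, ⊤)))).finrank y :=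
          congrArg (fun q : V ⟶ _ => q.finrank y) (eq_isoSpec_map p).symm
      _ = _ := by
        rw [Scheme.Hom.finrank_comp_left_of_isIso, Scheme.Hom.finrank_SpecMap_algebraMap,
          Module.rankAtStalk_eq_finrank_of_free]
        rfl
  have hfl : Flat p := by rw [← eq_isoSpec_map p]; exact inferInstanceAs (Flat (V.isoSpec.hom ≫ Spec.map (CommRingCat.ofHom (algebraMap k Γ(V, ⊤)))))
  haveI : IsLocallyNoetherian (Spec (CommRingCat.of k)) := inferInstance
  haveI : LocallyOfFinitePresentation p := inferInstance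
  constructor
  · exact fun h => (e ⟨⊥, Ideal.isPrime_bot⟩).symm.trans (h.2 _)
  · exact fun h => ⟨⟨inferInstance, hfl, inferInstance⟩, fun y => (e y).trans h⟩

theorem finrank_quot_eq {R : Type u} [CommRing R] [Algebra k R] (a : Ideal R) {S : Type u} [CommRing S]
    [Algebra k S] (e : (R ⧸ a) ≃+* S) (he : ∀ c : k, e (algebraMap k (R ⧸ a) c) = algebraMap k S c) :
    Module.finrank k (R ⧸ a) = Module.finrank k S :=
  (AlgEquiv.ofRingEquiv he).toLinearEquiv.finrank_eq

variable {X : Scheme.{u}} (f : X ⟶ Spec (CommRingCat.of k))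

/-- Sections of `L` vanishing on the closed subscheme of `J`. -/
def Kr (L : X.Modules) (J : X.IdealSheafData) : AddSubgroup Γ(L, ⊤) := (pb J.subschemeι L).ker

theorem mem_Kr {L : X.Modules} {J : X.IdealSheafData} (v : Γ(L, ⊤)) : v ∈ Kr L J ↔ pb J.subschemeι L v = 0 :=
  AddMonoidHom.mem_ker

theorem pb_closed_eq {V : Scheme.{u}} (i : V ⟶ X) [IsClosedImmersion i] (L : X.Modules) :
    (∀ v, pb i L v = 0 ↔ v ∈ Kr L i.ker) ∧
      (Function.Surjective (pb i L) ↔ Function.Surjective (pb i.ker.subschemeι L)) := by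
  have hb := pb_iso_bijective i.toImage ((Scheme.Modules.pullback i.ker.subschemeι).obj L)
  have h1 : ∀ v, pb (i.toImage ≫ i.ker.subschemeι) L v = 0 ↔ v ∈ Kr L i.ker := fun v => by
    rw [ker_pb_comp, mem_Kr]
    exact ⟨fun h => hb.1 (h.trans (map_zero _).symm), fun h => by rw [h]; exact map_zero _⟩
  have h2 : Function.Surjective (pb (i.toImage ≫ i.ker.subschemeι) L) ↔
      Function.Surjective (pb i.ker.subschemeι L) := by
    rw [surjective_pb_comp_iff]
    refine ⟨fun h y => ?_, fun h => hb.2.comp h⟩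
    obtain ⟨w, hw⟩ := h (pb i.toImage _ y)
    exact ⟨w, hb.1 hw⟩
  rw [show i.toImage ≫ i.ker.subschemeι = i from Scheme.Hom.toImage_imageι i] at h1 h2
  exact ⟨h1, h2⟩

theorem deg_ker_iff [IsSeparated f] {V : Scheme.{u}} [IsAffine V] (i : V ⟶ X) [IsClosedImmersion i]
    [IsFinite (i ≫ f)] (d : ℕ) :
    Mor2.IsFinLocFreeOfDeg d (i.ker.subschemeι ≫ f) ↔ dimk (i ≫ f) = d := by
  rw [← deg_iff]
  have e : i.toImage ≫ i.ker.subschemeι ≫ f = i ≫ f := Scheme.Hom.toImage_imageι_assoc i f
  constructor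
  · rintro ⟨⟨h1, h2, h3⟩, h4⟩
    haveI := h1; haveI := h2; haveI := h3
    refine ⟨⟨inferInstance, ?_, ?_⟩, fun y => ?_⟩
    · rw [← e]; infer_instance
    · rw [← e]; infer_instance
    · rw [← e, Scheme.Hom.finrank_comp_left_of_isIso, h4]
  · intro h
    rw [← e] at h
    obtain ⟨⟨h1, h2, h3⟩, h4⟩ := h
    rw [MorphismProperty.cancel_left_of_respectsIso (P := @IsFinite)] at h1
    rw [MorphismProperty.cancel_left_of_respectsIso (P := @Flat)] at h2
    rw [MorphismProperty.cancel_left_of_respectsIso (P := @LocallyOfFinitePresentation)] at h3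
    haveI := h1; haveI := h2
    exact ⟨⟨h1, h2, h3⟩, fun y => by rw [← h4 y, Scheme.Hom.finrank_comp_left_of_isIso i.toImage (i.ker.subschemeι ≫ f)]⟩

section Model

variable (K : X.IdealSheafData) [IsAffine K.subscheme]

/-- The closed subscheme of `K.subscheme` cut out by an ideal of its coordinate ring. -/
def sub (a : Ideal Γ(K.subscheme, ⊤)) : Spec (CommRingCat.of (Γ(K.subscheme, ⊤) ⧸ a)) ⟶ K.subscheme :=
  Spec.map (CommRingCat.ofHom (Ideal.Quotient.mk a)) ≫ K.subscheme.isoSpec.inv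

instance (a : Ideal Γ(K.subscheme, ⊤)) : IsClosedImmersion (sub K a) := by
  haveI : IsClosedImmersion (Spec.map (CommRingCat.ofHom (Ideal.Quotient.mk a))) :=
    IsClosedImmersion.spec_of_surjective _ Ideal.Quotient.mk_surjective
  unfold sub
  infer_instance

theorem sub_appTop (a : Ideal Γ(K.subscheme, ⊤)) (r : Γ(K.subscheme, ⊤)) :
    (sub K a).appTop r = (Scheme.ΓSpecIso _).inv (Ideal.Quotient.mk a r) := by
  have h : (sub K a).appTop =
      CommRingCat.ofHom (Ideal.Quotient.mk a) ≫ (Scheme.ΓSpecIso _).inv := by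
    rw [Scheme.ΓSpecIso_inv_naturality]
    have h0 : K.subscheme.isoSpec.inv.appTop = (Scheme.ΓSpecIso Γ(K.subscheme, ⊤)).inv := by
      have h1 : K.subscheme.isoSpec.inv.appTop ≫ K.subscheme.toSpecΓ.appTop = 𝟙 _ := by
        rw [← Scheme.Hom.comp_appTop, show K.subscheme.toSpecΓ = K.subscheme.isoSpec.hom from rfl, Iso.hom_inv_id]
        rfl
      rw [Scheme.toSpecΓ_appTop] at h1
      exact (Iso.comp_hom_eq_id _).1 h1
    simp only [sub, Scheme.Hom.comp_appTop, h0]
    rfl
  exact congrArg (fun φ => φ r) h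

theorem ker_sub_appTop (a : Ideal Γ(K.subscheme, ⊤)) : RingHom.ker (sub K a).appTop.hom = a := by
  ext r
  rw [RingHom.mem_ker, sub_appTop, map_eq_zero_iff _ (ConcreteCategory.bijective_of_isIso _).injective,
    Ideal.Quotient.eq_zero_iff_mem]

/-- The ideal sheaf of `X` attached to an ideal of the coordinate ring of `K.subscheme`. -/
def mk (a : Ideal Γ(K.subscheme, ⊤)) : X.IdealSheafData := (sub K a ≫ K.subschemeι).ker

theorem le_mk (a : Ideal Γ(K.subscheme, ⊤)) : K ≤ mk K a := by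
  conv_lhs => rw [← K.ker_subschemeι]
  exact Scheme.Hom.le_ker_comp _ _

theorem mk_mono {a b : Ideal Γ(K.subscheme, ⊤)} (h : a ≤ b) : mk K a ≤ mk K b := by
  have e : sub K b = Spec.map (CommRingCat.ofHom (Ideal.Quotient.factor h)) ≫ sub K a := by
    simp only [sub, ← Category.assoc, ← Spec.map_comp]
    rfl
  simp only [mk, e, Category.assoc]
  exact Scheme.Hom.le_ker_comp _ _

theorem exists_eq_mk {J : X.IdealSheafData} (h : K ≤ J) : ∃ a, mk K a = J := by
  let σ := Scheme.IdealSheafData.inclusion h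
  haveI : IsClosedImmersion (σ ≫ K.subschemeι) := by
    rw [Scheme.IdealSheafData.inclusion_subschemeι]; infer_instance
  haveI : IsClosedImmersion σ := IsClosedImmersion.of_comp σ K.subschemeι
  refine ⟨RingHom.ker σ.appTop.hom, ?_⟩
  conv_rhs => rw [← J.ker_subschemeι, ← Scheme.IdealSheafData.inclusion_subschemeι h]
  rw [mk, ← Scheme.IdealSheafData.map_ker, ← Scheme.IdealSheafData.map_ker, Scheme.ker_of_isAffine,
    Scheme.ker_of_isAffine, ker_sub_appTop]

theorem mem_Kr_mk {L : X.Modules} (hL : Coh.IsQCoh L) (a : Ideal Γ(K.subscheme, ⊤)) (v : Γ(L, ⊤)) :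
    v ∈ Kr L (mk K a) ↔ pb K.subschemeι L v ∈
      a • (⊤ : Submodule Γ(K.subscheme, ⊤) Γ((Scheme.Modules.pullback K.subschemeι).obj L, ⊤)) := by
  rw [mk, ← (pb_closed_eq (sub K a ≫ K.subschemeι) L).1, ker_pb_comp,
    (pb_closed_affine (sub K a) (Groth.Agent.QC.isQCoh_pullback K.subschemeι hL)).2, ker_sub_appTop]

theorem surjective_mk {L : X.Modules} (hL : Coh.IsQCoh L) (a : Ideal Γ(K.subscheme, ⊤))
    (h : Function.Surjective (pb K.subschemeι L)) : Function.Surjective (pb (mk K a).subschemeι L) := by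
  rw [mk, ← (pb_closed_eq (sub K a ≫ K.subschemeι) L).2, surjective_pb_comp_iff]
  exact (pb_closed_affine (sub K a) (Groth.Agent.QC.isQCoh_pullback K.subschemeι hL)).1.comp h

variable [IsSeparated f] [IsFinite (K.subschemeι ≫ f)]

theorem deg_mk_iff (a : Ideal Γ(K.subscheme, ⊤)) (d : ℕ) :
    letI := (sAlg (K.subschemeι ≫ f)).toAlgebra
    Mor2.IsFinLocFreeOfDeg d ((mk K a).subschemeι ≫ f) ↔ Module.finrank k (Γ(K.subscheme, ⊤) ⧸ a) = d := by
  letI := (sAlg (K.subschemeι ≫ f)).toAlgebra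
  haveI : IsFinite ((sub K a ≫ K.subschemeι) ≫ f) := by
    rw [Category.assoc]; infer_instance
  rw [mk, deg_ker_iff f]
  suffices dimk ((sub K a ≫ K.subschemeι) ≫ f) = Module.finrank k (Γ(K.subscheme, ⊤) ⧸ a) by rw [this]
  symm
  letI : Algebra k Γ(Spec (CommRingCat.of (Γ(K.subscheme, ⊤) ⧸ a)), ⊤) :=
    (sAlg ((sub K a ≫ K.subschemeι) ≫ f)).toAlgebra
  refine finrank_quot_eq a (Scheme.ΓSpecIso (CommRingCat.of (Γ(K.subscheme, ⊤) ⧸ a))).symm.commRingCatIsoToRingEquiv
    fun c => ?_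
  change (Scheme.ΓSpecIso (CommRingCat.of (Γ(K.subscheme, ⊤) ⧸ a))).inv (Ideal.Quotient.mk a (sAlg (K.subschemeι ≫ f) c)) = _
  rw [← sub_appTop]
  rfl

end Model

end Groth.Agent.TautSecant
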