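import Groth.Agent.TautSecant.Subscheme
import Mathlib

/-!
Unions of finite subschemes, adding points, and the splitting of conditions imposed on sections.
-/

set_option autoImplicit false
set_option linter.style.haveILetI false
set_option backward.isDefEq.respectTransparency false
set_option backward.isDefEq.respectTransparency.types false

universe u

open CategoryTheory CategoryTheory.Limits AlgebraicGeometry TopologicalSpace Opposite

noncomputable section

namespace Groth.Agent.TautSecant

variable {k : Type u} [Field k] {X : Scheme.{u}} (f : X ⟶ Spec (CommRingCat.of k))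

theorem range_inf_subset (J K : X.IdealSheafData) :
    Set.range (J ⊓ K).subschemeι ⊆ Set.range J.subschemeι ∪ Set.range K.subschemeι := by
  rw [Scheme.IdealSheafData.range_subschemeι, Scheme.IdealSheafData.range_subschemeι,
    Scheme.IdealSheafData.range_subschemeι]
  have hle : J * K ≤ J ⊓ K := fun U => by
    rw [Scheme.IdealSheafData.ideal_mul, Scheme.IdealSheafData.ideal_inf]
    exact Ideal.mul_le_inf
  have := Scheme.IdealSheafData.support_antitone hle
  rw [Scheme.IdealSheafData.support_mul] at this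
  exact this

theorem finite_range_of_isFinite (J : X.IdealSheafData) [IsFinite (J.subschemeι ≫ f)] :
    (Set.range J.subschemeι).Finite := by
  have h : (Set.univ : Set J.subscheme).Finite := by
    refine ((J.subschemeι ≫ f).finite_preimage_singleton (IsLocalRing.closedPoint k)).subset fun w _ => ?_
    exact Subsingleton.elim _ _
  rw [← Set.image_univ]
  exact h.image _

variable [IsProper f]

theorem isFinite_of_finite_range (K : X.IdealSheafData) (h : (Set.range K.subschemeι).Finite) :
    IsFinite (K.subschemeι ≫ f) := by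
  haveI : IsProper (K.subschemeι ≫ f) := inferInstance
  haveI : LocallyQuasiFinite (K.subschemeι ≫ f) := LocallyQuasiFinite.of_finite_preimage_singleton _ fun y => by
    haveI : Finite ↥K.subscheme := Set.finite_range_iff K.subschemeι.isEmbedding.injective |>.1 h
    exact Set.toFinite _
  exact IsFinite.of_isProper_of_locallyQuasiFinite _

theorem isFinite_inf (J K : X.IdealSheafData) [IsFinite (J.subschemeι ≫ f)] [IsFinite (K.subschemeι ≫ f)] :
    IsFinite ((J ⊓ K).subschemeι ≫ f) :=
  isFinite_of_finite_range f _ (((finite_range_of_isFinite f J).union (finite_range_of_isFinite f K)).subset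
    (range_inf_subset J K))

omit [IsProper f] in
theorem isAffine_of_fin (K : X.IdealSheafData) [IsFinite (K.subschemeι ≫ f)] : IsAffine K.subscheme :=
  isAffine_of_isAffineHom (K.subschemeι ≫ f)

/-- Adding a rational point outside the support raises the degree by one. -/
theorem deg_add_point (J : X.IdealSheafData) {l : ℕ} (hJ : Mor2.IsFinLocFreeOfDeg l (J.subschemeι ≫ f))
    (x : Spec (CommRingCat.of k) ⟶ X) (hx : x ≫ f = 𝟙 _) (hne : x (IsLocalRing.closedPoint k) ∉ Set.range J.subschemeι) :
    Mor2.IsFinLocFreeOfDeg (l + 1) ((J ⊓ x.ker).subschemeι ≫ f) := by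
  haveI : IsClosedImmersion x := isClosedImmersion_of_comp_eq_id _ _ hx
  haveI : IsFinite (J.subschemeι ≫ f) := hJ.1.1
  haveI : IsFinite (x ≫ f) := by rw [hx]; infer_instance
  have hP : Mor2.IsFinLocFreeOfDeg 1 (x.ker.subschemeι ≫ f) := by
    rw [deg_ker_iff f]
    have e : sAlg (x ≫ f) = (Scheme.ΓSpecIso (CommRingCat.of k)).inv.hom := by
      rw [sAlg, hx]
      exact congrArg CommRingCat.Hom.hom (Category.comp_id _)
    letI : Algebra k Γ(Spec (CommRingCat.of k), ⊤) := (sAlg (x ≫ f)).toAlgebra
    change Module.finrank k Γ(Spec (CommRingCat.of k), ⊤) = 1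
    rw [← Module.finrank_self k]
    refine (AlgEquiv.ofRingEquiv (f := (Scheme.ΓSpecIso (CommRingCat.of k)).symm.commRingCatIsoToRingEquiv)
      fun c => ?_).toLinearEquiv.finrank_eq.symm
    exact (congrArg (fun φ : k →+* _ => φ c) e).symm
  haveI : IsFinite (x.ker.subschemeι ≫ f) := hP.1.1
  let W := J ⊓ x.ker
  haveI : IsFinite (W.subschemeι ≫ f) := isFinite_inf f J x.ker
  haveI : IsAffine W.subscheme := isAffine_of_fin f W
  letI := (sAlg (W.subschemeι ≫ f)).toAlgebra
  haveI : Module.Finite k Γ(W.subscheme, ⊤) := finite_sAlg _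
  obtain ⟨a, ha⟩ := exists_eq_mk W (inf_le_left : W ≤ J)
  obtain ⟨b, hb⟩ := exists_eq_mk W (inf_le_right : W ≤ x.ker)
  have hra := (deg_mk_iff f W a l).1 (by rw [ha]; exact hJ)
  have hrb := (deg_mk_iff f W b 1).1 (by rw [hb]; exact hP)
  have hco : IsCoprime a b := by
    rw [Ideal.isCoprime_iff_sup_eq]
    by_contra hne'
    obtain ⟨m, hm, hle⟩ := Ideal.exists_le_maximal _ hne'
    let w : W.subscheme := W.subscheme.isoSpec.inv ⟨m, hm.isPrime⟩
    have hmem : ∀ c : Ideal Γ(W.subscheme, ⊤), c ≤ m →
        W.subschemeι w ∈ Set.range (mk W c).subschemeι := fun c hc => by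
      have : IsClosedImmersion (sub W c ≫ W.subschemeι) := inferInstance
      rw [mk, Scheme.IdealSheafData.range_subschemeι]
      refine Scheme.Hom.range_subset_ker_support _ ?_
      refine ⟨(⟨m.map (Ideal.Quotient.mk c), Ideal.map_isPrime_of_surjective Ideal.Quotient.mk_surjective
        (by rwa [Ideal.mk_ker])⟩ : PrimeSpectrum (Γ(W.subscheme, ⊤) ⧸ c)), ?_⟩
      change W.subschemeι ((W.subscheme.isoSpec.inv) (PrimeSpectrum.comap (Ideal.Quotient.mk c) _)) = _
      congr 2
      refine PrimeSpectrum.ext ?_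
      change Ideal.comap _ (Ideal.map _ m) = m
      rw [Ideal.comap_map_of_surjective _ Ideal.Quotient.mk_surjective, ← RingHom.ker, Ideal.mk_ker, sup_eq_left]
      exact hc
    have h1 := hmem a (le_sup_left.trans hle)
    have h2 := hmem b (le_sup_right.trans hle)
    rw [ha] at h1
    rw [hb, Scheme.IdealSheafData.range_subschemeι, x.support_ker, (Set.range_eq_singleton fun y => congrArg x (Subsingleton.elim y (IsLocalRing.closedPoint k))), IsClosed.closure_eq] at h2
    · rw [Set.mem_singleton_iff.1 h2] at h1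
      exact hne h1
    · have := x.isClosedEmbedding.isClosed_range
      rwa [Set.range_eq_singleton fun y => congrArg x (Subsingleton.elim y (IsLocalRing.closedPoint k))] at this
  have hbot : a ⊓ b = ⊥ := by
    have hle : mk W (a ⊓ b) ≤ W := le_inf ((mk_mono W inf_le_left).trans ha.le) ((mk_mono W inf_le_right).trans hb.le)
    have hW : mk W ⊥ = W := by
      refine le_antisymm ?_ (le_mk W ⊥)
      exact le_inf ((mk_mono W bot_le).trans ha.le) ((mk_mono W bot_le).trans hb.le)
    have heq : mk W (a ⊓ b) = mk W ⊥ := le_antisymm (hle.trans hW.ge) (mk_mono W bot_le)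
    have h0 : Mor2.IsFinLocFreeOfDeg (Module.finrank k (Γ(W.subscheme, ⊤) ⧸ (⊥ : Ideal Γ(W.subscheme, ⊤))))
        ((mk W ⊥).subschemeι ≫ f) := (deg_mk_iff f W ⊥ _).2 rfl
    have h1 := (deg_mk_iff f W (a ⊓ b) _).1 (by rw [heq]; exact h0)
    have h3 : Module.finrank k (Γ(W.subscheme, ⊤) ⧸ (⊥ : Ideal Γ(W.subscheme, ⊤))) = Module.finrank k Γ(W.subscheme, ⊤) :=
      (AlgEquiv.quotientBot k Γ(W.subscheme, ⊤)).toLinearEquiv.finrank_eq
    rw [h3] at h1
    have h4 := ((a ⊓ b).restrictScalars k).finrank_quotient_add_finrank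
    rw [(Submodule.Quotient.restrictScalarsEquiv k (a ⊓ b)).finrank_eq, h1] at h4
    have h5 : Module.finrank k ↥((a ⊓ b).restrictScalars k) = 0 := by omega
    exact (Submodule.restrictScalars_eq_bot_iff k Γ(W.subscheme, ⊤) Γ(W.subscheme, ⊤)).1 (Submodule.finrank_eq_zero.1 h5)
  have hW : mk W ⊥ = W :=
    le_antisymm (le_inf ((mk_mono W bot_le).trans ha.le) ((mk_mono W bot_le).trans hb.le)) (le_mk W ⊥)
  have key : Module.finrank k (Γ(W.subscheme, ⊤) ⧸ (⊥ : Ideal Γ(W.subscheme, ⊤))) = l + 1 := by
    rw [← hbot, ← hra, ← hrb, ← Module.finrank_prod]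
    exact ({ (Ideal.quotientInfEquivQuotientProd a b hco).toAddEquiv with
      map_smul' := fun c y => by
        obtain ⟨y, rfl⟩ := Ideal.Quotient.mk_surjective y
        rfl } : (Γ(W.subscheme, ⊤) ⧸ (a ⊓ b)) ≃ₗ[k] _).finrank_eq
  have := (deg_mk_iff f W ⊥ (l + 1)).2 key
  rwa [hW] at this

/-- A finite subscheme is contained in one of any larger degree. -/
theorem exists_extend (hinf : ∀ S : Set X, S.Finite → ∃ x : Spec (CommRingCat.of k) ⟶ X,
      x ≫ f = 𝟙 _ ∧ x (IsLocalRing.closedPoint k) ∉ S)
    (J : X.IdealSheafData) {l : ℕ} (hJ : Mor2.IsFinLocFreeOfDeg l (J.subschemeι ≫ f)) :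
    ∀ N, l ≤ N → ∃ K : X.IdealSheafData, K ≤ J ∧ Mor2.IsFinLocFreeOfDeg N (K.subschemeι ≫ f) := by
  intro N hN
  induction N, hN using Nat.le_induction with
  | base => exact ⟨J, le_rfl, hJ⟩
  | succ N _ ih =>
    obtain ⟨K, hKJ, hK⟩ := ih
    haveI : IsFinite (K.subschemeι ≫ f) := hK.1.1
    obtain ⟨x, hx, hne⟩ := hinf _ (finite_range_of_isFinite f K)
    exact ⟨K ⊓ x.ker, inf_le_left.trans hKJ, deg_add_point f K hK x hx hne⟩

end Groth.Agent.TautSecant
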